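import Mathlib

/-! # Hilbert polynomials, part 1: a function which is polynomial along all arithmetic
progressions of two consecutive moduli is a polynomial. -/

set_option autoImplicit false

namespace Groth.Agent.H5.HP

open Polynomial

/-- reparametrisation of a polynomial along the progression `r + d ℕ`. -/
noncomputable def reparam (A : ℚ[X]) (d r : ℕ) : ℚ[X] :=
  A.comp (C ((d : ℚ)⁻¹) * (X - C (r : ℚ)))

lemma reparam_eval (A : ℚ[X]) (d r : ℕ) (hd : 0 < d) (q : ℕ) :
    (reparam A d r).eval (((r + d * q : ℕ) : ℚ)) = A.eval (q : ℚ) := by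
  unfold reparam
  rw [eval_comp]
  congr 1
  have hd' : (d : ℚ) ≠ 0 := by exact_mod_cast hd.ne'
  simp only [eval_mul, eval_C, eval_sub, eval_X]
  push_cast
  field_simp
  ring

/-- A function `ℕ → ℚ` which is polynomial along all arithmetic progressions of modulus `d` and of
modulus `d + 1` is a polynomial. -/
theorem exists_poly_of_progressions (f : ℕ → ℚ) (d : ℕ) (hd : 0 < d)
    (h1 : ∀ r : ℕ, ∃ Q : ℚ[X], ∀ q : ℕ, f (r + d * q) = Q.eval (q : ℚ))
    (h2 : ∀ r : ℕ, ∃ Q : ℚ[X], ∀ q : ℕ, f (r + (d + 1) * q) = Q.eval (q : ℚ)) :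
    ∃ P : ℚ[X], ∀ n : ℕ, f n = P.eval (n : ℚ) := by
  choose A hA using h1
  choose B hB using h2
  have hA' : ∀ r q : ℕ, f (r + d * q) = (reparam (A r) d r).eval (((r + d * q : ℕ) : ℚ)) := by
    intro r q; rw [reparam_eval _ _ _ hd, hA]
  have hB' : ∀ s q : ℕ, f (s + (d + 1) * q) =
      (reparam (B s) (d + 1) s).eval (((s + (d + 1) * q : ℕ) : ℚ)) := by
    intro s q; rw [reparam_eval _ _ _ (Nat.succ_pos d), hB]
  have key : ∀ r s : ℕ, reparam (A r) d r = reparam (B s) (d + 1) s := by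
    intro r s
    apply Polynomial.eq_of_infinite_eval_eq
    let g : ℕ → ℚ := fun t => ((r * (d + 1) + s * d ^ 2 + d * (d + 1) * t : ℕ) : ℚ)
    have hg : Function.Injective g := by
      intro t t' h
      have h' : r * (d + 1) + s * d ^ 2 + d * (d + 1) * t =
          r * (d + 1) + s * d ^ 2 + d * (d + 1) * t' := by
        have h0 : ((r * (d + 1) + s * d ^ 2 + d * (d + 1) * t : ℕ) : ℚ) =
          ((r * (d + 1) + s * d ^ 2 + d * (d + 1) * t' : ℕ) : ℚ) := h
        exact_mod_cast h0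
      have h'' : d * (d + 1) * t = d * (d + 1) * t' := by omega
      exact Nat.eq_of_mul_eq_mul_left (Nat.mul_pos hd (Nat.succ_pos d)) h''
    refine Set.infinite_of_injective_forall_mem hg (fun t => ?_)
    change (reparam (A r) d r).eval (g t) = (reparam (B s) (d + 1) s).eval (g t)
    obtain ⟨e, rfl⟩ : ∃ e, d = e + 1 := ⟨d - 1, by omega⟩
    have e1 : r * (e + 1 + 1) + s * (e + 1) ^ 2 + (e + 1) * (e + 1 + 1) * t =
        r + (e + 1) * (r + s * (e + 1) + (e + 1 + 1) * t) := by ring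
    have e2 : r * (e + 1 + 1) + s * (e + 1) ^ 2 + (e + 1) * (e + 1 + 1) * t =
        s + (e + 1 + 1) * (r + s * e + (e + 1) * t) := by ring
    have h3 := hA' r (r + s * (e + 1) + (e + 1 + 1) * t)
    have h4 := hB' s (r + s * e + (e + 1) * t)
    rw [← e1] at h3
    rw [← e2] at h4
    change (reparam (A r) (e + 1) r).eval
      ((r * (e + 1 + 1) + s * (e + 1) ^ 2 + (e + 1) * (e + 1 + 1) * t : ℕ) : ℚ) = _
    rw [← h3, h4]
  refine ⟨reparam (A 0) d 0, fun n => ?_⟩
  have hn : n = n % d + d * (n / d) := (Nat.mod_add_div n d).symm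
  have h5 := hA' (n % d) (n / d)
  rw [← hn] at h5
  rw [h5, key (n % d) 0, ← key 0 0]

end Groth.Agent.H5.HP
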