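import Mathlib
import Groth.Agent.Lib.Lead.PN.AmpleSerreRel
import Groth.Agent.Lib.Lead.PN.HilbPoly
import Groth.Agent.Lib.Lead.Curve.Euler
import Groth.Agent.Lib.Helper5.HP.HP1
import Groth.Prelude.Def_ShStab

/-! # Hilbert polynomials, part 2: existence of the Hilbert polynomial of a coherent module on a
proper scheme over a field with respect to an ample invertible module. -/

set_option autoImplicit false
universe u
open CategoryTheory CategoryTheory.Limits AlgebraicGeometry Opposite TopologicalSpace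

namespace Groth.Agent.H5.HP

open Groth.Agent.LD Groth.Agent.LD.QC Twist Groth.Agent.LD.PN Polynomial

section Iso
variable (n : ℕ) (R : Type u) [CommRing R] {X : Scheme.{u}}

theorem nonempty_twOn_iso (i : X ⟶ Proj (CohB1.polyGrading n R))
    (L : X.Modules) (hL : PicF.IsInvertible L) (d : ℕ)
    (e : CohB1.tensorPow L d ≅ (Scheme.Modules.pullback i).obj (twist (CohB1.polyGrading n R) 1))
    (M : X.Modules) [M.IsQuasicoherent] (r q : ℕ) :
    Nonempty (twOn n R i (CohB1.tensorMod M (CohB1.tensorPow L r)) ((q : ℕ) : ℤ) ≅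
      CohB1.tensorMod M (CohB1.tensorPow L (r + d * q))) := by
  haveI : L.IsQuasicoherent := qc_of_isInvertible L hL
  obtain ⟨e1⟩ := TW.nonempty_twist_iso_tensorPow (X_range_mem n R) (irrelevant_eq_span n R) q
  have e2 : (Scheme.Modules.pullback i).obj (twist (CohB1.polyGrading n R) ((q : ℕ) : ℤ)) ≅
      CohB1.tensorPow (CohB1.tensorPow L d) q :=
    (Scheme.Modules.pullback i).mapIso e1 ≪≫
      pbTensorPowIso i _ (isInvertible_twist n R 1) q ≪≫ tensorPowCongr e.symm q
  have m1 : IsMon M L (twOn n R i (CohB1.tensorMod M (CohB1.tensorPow L r))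
      ((q : ℕ) : ℤ)) (1 + 0 + q * 0) (0 + r + q * d) :=
    (((isMon_left M L).tensor (isMon_powRight M L r)).tensor
      ((isMon_powRight M L d).pow q)).of_iso (tensorIso' (Iso.refl _) e2.symm)
  have m2 : IsMon M L (CohB1.tensorMod M (CohB1.tensorPow L (r + d * q))) (1 + 0)
      (0 + (r + d * q)) :=
    (isMon_left M L).tensor (isMon_powRight M L (r + d * q))
  have hidx : 0 + r + q * d = 0 + (r + d * q) := by ring
  exact (m1.cast (by simp) hidx).iso m2

end Iso

variable (k : Type u) [Field k] (X : Scheme.{u}) [X.Over (Spec (CommRingCat.of k))]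
  [IsProper (X ↘ Spec (CommRingCat.of k))]

lemma isCoh_twist (L : X.Modules) (hL : PicF.IsInvertible L) (M : X.Modules) (hM : Coh.IsCoh M)
    (r : ℕ) : Coh.IsCoh (CohB1.tensorMod M (CohB1.tensorPow L r)) := by
  haveI : M.IsQuasicoherent := hM.1
  haveI : L.IsQuasicoherent := qc_of_isInvertible L hL
  exact ⟨tensorMod_isQuasicoherent _ _,
    isFiniteType_tensorMod_of_isInvertible M hM.2 _ (isInvertible_tensorPow hL r)⟩

/-- along arithmetic progressions of large modulus, the Euler characteristic of the twists is a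
polynomial. -/
theorem exists_poly_progression (L : X.Modules) (hA : CohB1.IsAmple L) (M : X.Modules)
    (hM : Coh.IsCoh M) :
    ∃ d₀ : ℕ, ∀ d : ℕ, d₀ ≤ d → 0 < d → ∀ r : ℕ, ∃ Q : ℚ[X], ∀ q : ℕ,
      (Curv2.euler k X (CohB1.tensorMod M (CohB1.tensorPow L (r + d * q))) : ℚ) =
        Q.eval (q : ℚ) := by
  have hL := hA.1
  haveI : M.IsQuasicoherent := hM.1
  obtain ⟨n₀, hn₀⟩ :=
    (Groth.Agent.H5.VAmple.ample_iff_some_power_veryAmple (X ↘ Spec (CommRingCat.of k)) L hL).2 hA
  refine ⟨n₀, fun d hd _ r => ?_⟩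
  obtain ⟨n, i, hi, hcomp, ⟨e⟩⟩ := hn₀ d hd
  haveI := hi
  haveI := Groth.Agent.H5.AG.isProper_toBase n (Spec (CommRingCat.of k))
  have hcomp' : i ≫ CohB1.ProjSpaceOver.toBase n (Spec (CommRingCat.of k)) =
      X ↘ Spec (CommRingCat.of k) := hcomp
  haveI : IsProper (i ≫ CohB1.ProjSpaceOver.toBase n (Spec (CommRingCat.of k))) := by
    rw [hcomp']; infer_instance
  haveI := AmS.isClosedImmersion_of_comp_proper i
    (CohB1.ProjSpaceOver.toBase n (Spec (CommRingCat.of k)))
  let i' : X ⟶ Proj (CohB1.polyGrading n k) := i ≫ (OB.bridge n k).inv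
  haveI : IsClosedImmersion i' := inferInstanceAs (IsClosedImmersion (i ≫ (OB.bridge n k).inv))
  haveI : i'.IsOver (Spec (CommRingCat.of k)) := ⟨by
    change (i ≫ (OB.bridge n k).inv) ≫ CohB1.ProjSpace.toSpec n k = _
    rw [Category.assoc, OB.bridge_inv_toSpec, hcomp']⟩
  have e' : CohB1.tensorPow L d ≅
      (Scheme.Modules.pullback i').obj (Twist.twist (CohB1.polyGrading n k) 1) :=
    e ≪≫ (Scheme.Modules.pullback i).mapIso (AmS.bridgeTwistIsoInv n k 1).symm ≪≫
      (Scheme.Modules.pullbackComp i (OB.bridge n k).inv).app _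
  have hcoh := isCoh_twist X L hL M hM r
  obtain ⟨Q, hQ⟩ := exists_hilbert_polynomial_on n k i' _ hcoh
  refine ⟨Q, fun q => ?_⟩
  have hQ' := hQ ((q : ℕ) : ℤ)
  have hcast : (((q : ℕ) : ℤ) : ℚ) = (q : ℚ) := by push_cast; rfl
  rw [hcast] at hQ'
  rw [← hQ']
  obtain ⟨e3⟩ := nonempty_twOn_iso n k i' L hL d e' M r q
  rw [← Curve.euler_iso k X e3]
  have hcoh2 : Coh.IsCoh (twOn n k i' (CohB1.tensorMod M (CohB1.tensorPow L r)) ((q : ℕ) : ℤ)) :=
    ⟨qc_of_iso e3.symm (isCoh_twist X L hL M hM (r + d * q)).1,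
      @isFiniteType_of_iso _ _ _ e3.symm (isCoh_twist X L hL M hM (r + d * q)).1
        (isCoh_twist X L hL M hM (r + d * q)).2⟩
  have hvan : ∀ p, n < p → Subsingleton (Coh.HH X
      (twOn n k i' (CohB1.tensorMod M (CohB1.tensorPow L r)) ((q : ℕ) : ℤ)) p) := by
    intro p hp
    rw [subsingleton_HH_twOn_iff]
    haveI : (CohB1.tensorMod M (CohB1.tensorPow L r)).IsQuasicoherent := hcoh.1
    haveI : ((Scheme.Modules.pushforward i').obj
        (CohB1.tensorMod M (CohB1.tensorPow L r))).IsQuasicoherent := qc_pushforward i' _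
    haveI := kG_qc n k ((Scheme.Modules.pushforward i').obj
        (CohB1.tensorMod M (CohB1.tensorPow L r))) ((q : ℕ) : ℤ)
    exact subsingleton_HH_of_lt n k _ p hp
  rw [Curve.euler_eq_sum k X _ n hvan]
  push_cast
  refine Finset.sum_congr rfl (fun j _ => ?_)
  haveI := Curve.finite_HH k X _ hcoh2 j
  rw [Module.length_eq_finrank]
  rfl

/-- **existence of the Hilbert polynomial** with respect to an ample invertible module. -/
theorem exists_isHilbPoly (L : X.Modules) (hA : CohB1.IsAmple L) (M : X.Modules)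
    (hM : Coh.IsCoh M) : ∃ P : ℚ[X], ShStab.IsHilbPoly k X L M P := by
  obtain ⟨d₀, hd₀⟩ := exists_poly_progression k X L hA M hM
  have h := exists_poly_of_progressions
    (fun m => (Curv2.euler k X (CohB1.tensorMod M (CohB1.tensorPow L m)) : ℚ)) (d₀ + 1)
    (Nat.succ_pos _) (hd₀ (d₀ + 1) (by omega) (Nat.succ_pos _))
    (hd₀ (d₀ + 1 + 1) (by omega) (Nat.succ_pos _))
  obtain ⟨P, hP⟩ := h
  exact ⟨P, fun m => hP m⟩

end Groth.Agent.H5.HP
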