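import Mathlib
import Groth.Agent.Lib.Helper5.HP.HP2
import Groth.Agent.Lib.Lead.QC.SerreSupp
import Groth.Agent.Lib.Lead.QC.TensorExact
import Groth.Agent.Lib.Lead.QC.AmpleGG
import Groth.Agent.Lib.Lead.Curve.Torsion
import Groth.Agent.Lib.Helper5.Eig.Simple1
import Groth.Agent.Lib.Helper5.Glue.F

/-! # Hilbert polynomials, part 3: uniqueness, invariance, additivity, vanishing. -/

set_option autoImplicit false
universe u
open CategoryTheory CategoryTheory.Limits AlgebraicGeometry Opposite TopologicalSpace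

namespace Groth.Agent.H5.HP

open Groth.Agent.LD Groth.Agent.LD.QC Polynomial

variable (k : Type u) [Field k] (X : Scheme.{u}) [X.Over (Spec (CommRingCat.of k))]

/-- the Hilbert polynomial is unique. -/
theorem isHilbPoly_unique (L M : X.Modules) {P P' : ℚ[X]} (h : ShStab.IsHilbPoly k X L M P)
    (h' : ShStab.IsHilbPoly k X L M P') : P = P' := by
  apply Polynomial.eq_of_infinite_eval_eq
  refine Set.infinite_of_injective_forall_mem (f := fun m : ℕ => (m : ℚ)) Nat.cast_injective
    (fun m => ?_)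
  change P.eval (m : ℚ) = P'.eval (m : ℚ)
  rw [← h m, ← h' m]

/-- isomorphic modules have the same Hilbert polynomials. -/
theorem isHilbPoly_of_iso (L : X.Modules) {M N : X.Modules} (e : M ≅ N) {P : ℚ[X]}
    (h : ShStab.IsHilbPoly k X L M P) : ShStab.IsHilbPoly k X L N P := by
  intro m
  rw [← h m]
  congr 1
  exact (Curve.euler_iso k X (tensorIso' e (Iso.refl _))).symm

/-- the zero module has Hilbert polynomial `0`. -/
theorem isHilbPoly_of_isZero (L : X.Modules) (hL : PicF.IsInvertible L) {M : X.Modules}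
    (hM : IsZero M) : ShStab.IsHilbPoly k X L M 0 := by
  intro m
  rw [Polynomial.eval_zero]
  have hZ : IsZero (ShStab.twist X L M m) := by
    rw [IsZero.iff_id_eq_zero]
    have h1 : 𝟙 (CohB1.tensorMod M (CohB1.tensorPow L m)) =
        KoszTw.tensorMap (𝟙 M) (𝟙 (CohB1.tensorPow L m)) := (tensorMap_id_id _ _).symm
    change 𝟙 (CohB1.tensorMod M (CohB1.tensorPow L m)) = 0
    rw [h1, hM.eq_of_src (𝟙 M) 0, tensorMap_zero_id (isInvertible_tensorPow hL m)]
  rw [Curve.euler_of_isZero k X hZ]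
  simp

variable [IsProper (X ↘ Spec (CommRingCat.of k))]

/-- **additivity of Hilbert polynomials** in short exact sequences of coherent modules. -/
theorem isHilbPoly_add (L : X.Modules) (hL : PicF.IsInvertible L) {S : ShortComplex X.Modules}
    (hS : S.ShortExact) (h₁ : Coh.IsCoh S.X₁) (h₂ : Coh.IsCoh S.X₂) (h₃ : Coh.IsCoh S.X₃)
    {P₁ P₃ : ℚ[X]} (hP₁ : ShStab.IsHilbPoly k X L S.X₁ P₁)
    (hP₃ : ShStab.IsHilbPoly k X L S.X₃ P₃) : ShStab.IsHilbPoly k X L S.X₂ (P₁ + P₃) := by
  intro m
  rw [Polynomial.eval_add, ← hP₁ m, ← hP₃ m]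
  have hS' := shortExact_tensorMap_of_isInvertible hS (CohB1.tensorPow L m)
    (isInvertible_tensorPow hL m)
  have h := Curve.euler_add k X _ hS' (isCoh_twist X L hL _ h₁ m) (isCoh_twist X L hL _ h₂ m)
    (isCoh_twist X L hL _ h₃ m)
  have h' : Curv2.euler k X (ShStab.twist X L S.X₂ m) =
      Curv2.euler k X (ShStab.twist X L S.X₁ m) + Curv2.euler k X (ShStab.twist X L S.X₃ m) := h
  rw [h']
  push_cast
  rfl

/-- a coherent module whose Hilbert polynomial vanishes is zero. -/
theorem isZero_of_isHilbPoly_zero (L : X.Modules) (hA : CohB1.IsAmple L) (M : X.Modules)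
    (hM : Coh.IsCoh M) (h : ShStab.IsHilbPoly k X L M 0) : IsZero M := by
  have hL := hA.1
  haveI : M.IsQuasicoherent := hM.1
  haveI : L.IsQuasicoherent := qc_of_isInvertible L hL
  haveI := Curve.quasiSeparatedSpace k X
  obtain ⟨n₀, hn₀⟩ := PN.AmS.serre_vanishing_of_isAmple k (X ↘ Spec (CommRingCat.of k)) L hL hA M hM
  obtain ⟨n₁, hn₁⟩ := exists_epi_free_of_isAmple L hA M hM.2
  let n := max n₀ n₁
  obtain ⟨K, p, hp⟩ := hn₁ n (le_max_right _ _)
  have hvan := hn₀ n (le_max_left _ _)
  have hcoh := isCoh_twist X L hL M hM n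
  -- H⁰ vanishes
  have h0 : Subsingleton (Coh.HH X (CohB1.tensorMod M (CohB1.tensorPow L n)) 0) := by
    have he := Curve.euler_eq_sum k X (CohB1.tensorMod M (CohB1.tensorPow L n)) 0
      (fun p hp => hvan p hp)
    have hm := h n
    rw [Polynomial.eval_zero] at hm
    have hm' : Curv2.euler k X (CohB1.tensorMod M (CohB1.tensorPow L n)) = 0 := by
      exact_mod_cast hm
    rw [hm'] at he
    simp only [zero_add, Finset.range_one, Finset.sum_singleton, pow_zero, one_mul] at he
    haveI := Curve.finite_HH k X _ hcoh 0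
    have hfr : Module.finrank k (Coh.HH X (CohB1.tensorMod M (CohB1.tensorPow L n)) 0) = 0 := by
      exact_mod_cast he.symm
    exact Module.finrank_zero_iff.mp hfr
  have hΓ : Subsingleton Γ(CohB1.tensorMod M (CohB1.tensorPow L n), ⊤) :=
    (CL.HH0Equiv (CohB1.tensorMod M (CohB1.tensorPow L n))).symm.subsingleton
  have hp0 : p = 0 := by
    apply Sigma.hom_ext
    intro j
    have key : ∀ σ : unitMod X ⟶ CohB1.tensorMod M (CohB1.tensorPow L n), σ = 0 := by
      intro σ
      rw [← homOfSection_sectionOfHom σ,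
        ← homOfSection_sectionOfHom (0 : unitMod X ⟶ CohB1.tensorMod M (CohB1.tensorPow L n))]
      congr 1
      exact Subsingleton.elim _ _
    rw [Limits.comp_zero]
    exact key _
  have hZ : IsZero (CohB1.tensorMod M (CohB1.tensorPow L n)) := by
    rw [IsZero.iff_id_eq_zero, ← cancel_epi p, hp0, Limits.zero_comp, Limits.zero_comp]
  obtain ⟨L', hL', ⟨e⟩⟩ := Groth.Agent.H5.Glue.exists_inverse (CohB1.tensorPow L n)
    (isInvertible_tensorPow hL n)
  rw [IsZero.iff_id_eq_zero]
  apply Groth.Agent.H5.Eig.eq_zero_of_tensorMap_eq_zero (isInvertible_tensorPow hL n) hL' e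
  exact hZ.eq_of_src _ _

end Groth.Agent.H5.HP
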