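import Mathlib
import Groth.Agent.Lib.Helper5.HP.HP3

/-! # Hilbert polynomials, part 4: morphisms between (semi)stable modules with the same Hilbert
polynomial. -/

set_option autoImplicit false
universe u
open CategoryTheory CategoryTheory.Limits AlgebraicGeometry Opposite TopologicalSpace

namespace Groth.Agent.H5.HP

open Groth.Agent.LD Groth.Agent.LD.QC StabCat

section Poly

lemma alpha_add (d : ℕ) (P Q : Polynomial ℚ) : alpha d (P + Q) = alpha d P + alpha d Q := by
  unfold alpha; rw [Polynomial.coeff_add]; ring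

lemma alpha_zero (d : ℕ) : alpha d (0 : Polynomial ℚ) = 0 := by
  unfold alpha; simp

lemma redLE_of_redLT {d : ℕ} {P Q : Polynomial ℚ} (h : RedLT d P Q) : RedLE d P Q := by
  obtain ⟨N, hN⟩ := h
  exact ⟨N, fun m hm => (hN m hm).le⟩

lemma redLE_refl (d : ℕ) (P : Polynomial ℚ) : RedLE d P P := ⟨0, fun _ _ => le_rfl⟩

lemma redLE_zero_left (d : ℕ) (P : Polynomial ℚ) : RedLE d 0 P := by
  refine ⟨0, fun m _ => ?_⟩
  rw [alpha_zero]; simp

lemma not_redLT_self (d : ℕ) (P : Polynomial ℚ) : ¬ RedLT d P P := by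
  rintro ⟨N, hN⟩
  exact lt_irrefl _ (hN N le_rfl)

/-- the two pieces of a sum cannot both have smaller reduced polynomial, one of them strictly. -/
lemma absurd_of_redLT_redLE {d : ℕ} {P P₁ P₂ : Polynomial ℚ} (hP : P = P₁ + P₂)
    (h1 : RedLT d P₁ P) (h2 : RedLE d P₂ P) : False := by
  obtain ⟨N₁, h1⟩ := h1
  obtain ⟨N₂, h2⟩ := h2
  have a1 := h1 (max N₁ N₂) (le_max_left _ _)
  have a2 := h2 (max N₁ N₂) (le_max_right _ _)
  rw [Polynomial.eval_smul, Polynomial.eval_smul, smul_eq_mul, smul_eq_mul] at a1 a2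
  have ha : alpha d P = alpha d P₁ + alpha d P₂ := by rw [hP, alpha_add]
  have he : P.eval ((max N₁ N₂ : ℕ) : ℚ) = P₁.eval ((max N₁ N₂ : ℕ) : ℚ) +
      P₂.eval ((max N₁ N₂ : ℕ) : ℚ) := by rw [hP, Polynomial.eval_add]
  rw [ha] at a1 a2
  rw [he] at a1 a2
  nlinarith

end Poly

section Abstract
variable {C : Type*} [Category C] [Abelian C] {F G : C} (φ : F ⟶ G)

/-- the short exact sequence `0 → ker φ → F → coim φ → 0`. -/
lemma shortExact_kerCoim : (ShortComplex.mk (kernel.ι φ) (Abelian.coimage.π φ)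
    (cokernel.condition _)).ShortExact :=
  { exact := ShortComplex.exact_cokernel (kernel.ι φ)
    mono_f := inferInstanceAs (Mono (kernel.ι φ))
    epi_g := inferInstanceAs (Epi (cokernel.π (kernel.ι φ))) }

/-- the short exact sequence `0 → F → G → coker φ → 0` of a monomorphism. -/
lemma shortExact_coker [Mono φ] : (ShortComplex.mk φ (cokernel.π φ)
    (cokernel.condition _)).ShortExact :=
  { exact := ShortComplex.exact_cokernel φ
    mono_f := inferInstanceAs (Mono φ)
    epi_g := inferInstanceAs (Epi (cokernel.π φ)) }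

/-- the short exact sequence `0 → ker φ → F → G → 0` of an epimorphism. -/
lemma shortExact_ker [Epi φ] : (ShortComplex.mk (kernel.ι φ) φ
    (kernel.condition _)).ShortExact :=
  { exact := ShortComplex.exact_kernel φ
    mono_f := inferInstanceAs (Mono (kernel.ι φ))
    epi_g := inferInstanceAs (Epi φ) }

lemma not_isIso_kernel_ι (hφ : φ ≠ 0) : ¬ IsIso (kernel.ι φ) := by
  intro h
  apply hφ
  rw [← cancel_epi (kernel.ι φ), kernel.condition, comp_zero]

lemma not_isZero_coimage (hφ : φ ≠ 0) : ¬ IsZero (Abelian.coimage φ) := by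
  intro h
  apply hφ
  rw [← Abelian.coimage.fac φ, h.eq_of_tgt (Abelian.coimage.π φ) 0, zero_comp]

lemma mono_of_isZero_kernel (h : IsZero (kernel φ)) : Mono φ :=
  Preadditive.mono_of_kernel_zero (h.eq_of_src _ _)

lemma epi_of_isZero_cokernel (h : IsZero (cokernel φ)) : Epi φ :=
  Preadditive.epi_of_cokernel_zero (h.eq_of_tgt _ _)

lemma epi_of_isIso_factorThruCoimage (h : IsIso (Abelian.factorThruCoimage φ)) : Epi φ := by
  rw [← Abelian.coimage.fac φ]
  infer_instance

end Abstract

variable (k : Type u) [Field k] (X : Scheme.{u}) [X.Over (Spec (CommRingCat.of k))]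
  [IsProper (X ↘ Spec (CommRingCat.of k))]

omit [IsProper (X ↘ Spec (CommRingCat.of k))] in
theorem isSemistable_of_isStable (L E : X.Modules) (d : ℕ) (h : ShStab.IsStable k X L E d) :
    ShStab.IsSemistable k X L E d :=
  ⟨h.1, h.2.1, h.2.2.1, fun F ι hι hF hF0 hni pF pE hpF hpE =>
    redLE_of_redLT (h.2.2.2 F ι hι hF hF0 hni pF pE hpF hpE)⟩

variable (L : X.Modules) (hA : CohB1.IsAmple L)

section KerIm
variable {F G : X.Modules} (hF : Coh.IsCoh F) (hG : Coh.IsCoh G) (φ : F ⟶ G)

include k hF hG in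
lemma isCoh_kernel' : Coh.IsCoh (kernel φ) := by
  haveI := Curve.isLocallyNoetherian k X
  exact isCoh_kernel φ hF hG

include k hF hG in
lemma isCoh_coimage : Coh.IsCoh (Abelian.coimage φ) :=
  isCoh_cokernel _ (isCoh_kernel' k X hF hG φ) hF

include hA hF hG in
/-- the Hilbert polynomial of `F` is the sum of those of the kernel and the coimage. -/
lemma hilbPoly_kerCoim {P PK PI : Polynomial ℚ} (hP : ShStab.IsHilbPoly k X L F P)
    (hPK : ShStab.IsHilbPoly k X L (kernel φ) PK)
    (hPI : ShStab.IsHilbPoly k X L (Abelian.coimage φ) PI) : P = PK + PI :=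
  isHilbPoly_unique k X L F hP
    (isHilbPoly_add k X L hA.1 (shortExact_kerCoim φ) (isCoh_kernel' k X hF hG φ) hF
      (isCoh_coimage k X hF hG φ) hPK hPI)

end KerIm

variable {L} (d : ℕ) {F G : X.Modules} {P : Polynomial ℚ}

include hA in
/-- a nonzero morphism from a stable module to a semistable module with the same Hilbert polynomial
is a monomorphism. -/
theorem mono_of_isStable_src (hF : ShStab.IsStable k X L F d) (hG : ShStab.IsSemistable k X L G d)
    (hpF : ShStab.IsHilbPoly k X L F P) (hpG : ShStab.IsHilbPoly k X L G P) (φ : F ⟶ G)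
    (hφ : φ ≠ 0) : Mono φ := by
  by_contra hm
  have hK0 : ¬ IsZero (kernel φ) := fun h => hm (mono_of_isZero_kernel φ h)
  have hKc := isCoh_kernel' k X hF.1 hG.1 φ
  have hIc := isCoh_coimage k X hF.1 hG.1 φ
  obtain ⟨PK, hPK⟩ := exists_isHilbPoly k X L hA _ hKc
  obtain ⟨PI, hPI⟩ := exists_isHilbPoly k X L hA _ hIc
  have hsum := hilbPoly_kerCoim k X L hA hF.1 hG.1 φ hpF hPK hPI
  have h1 : RedLT d PK P :=
    hF.2.2.2 (kernel φ) (kernel.ι φ) inferInstance hKc hK0 (not_isIso_kernel_ι φ hφ) PK P hPK hpF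
  have h2 : RedLE d PI P := by
    by_cases hiso : IsIso (Abelian.factorThruCoimage φ)
    · have : PI = P := isHilbPoly_unique k X L G
        (isHilbPoly_of_iso k X L (asIso (Abelian.factorThruCoimage φ)) hPI) hpG
      rw [this]; exact redLE_refl d P
    · exact hG.2.2.2 (Abelian.coimage φ) (Abelian.factorThruCoimage φ) inferInstance hIc
        (not_isZero_coimage φ hφ) hiso PI P hPI hpG
  exact absurd_of_redLT_redLE hsum h1 h2

include hA in
/-- a nonzero morphism from a semistable module to a stable module with the same Hilbert polynomial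
is an epimorphism. -/
theorem epi_of_isStable_tgt (hF : ShStab.IsSemistable k X L F d) (hG : ShStab.IsStable k X L G d)
    (hpF : ShStab.IsHilbPoly k X L F P) (hpG : ShStab.IsHilbPoly k X L G P) (φ : F ⟶ G)
    (hφ : φ ≠ 0) : Epi φ := by
  by_contra hm
  have hiso : ¬ IsIso (Abelian.factorThruCoimage φ) :=
    fun h => hm (epi_of_isIso_factorThruCoimage φ h)
  have hKc := isCoh_kernel' k X hF.1 hG.1 φ
  have hIc := isCoh_coimage k X hF.1 hG.1 φ
  obtain ⟨PK, hPK⟩ := exists_isHilbPoly k X L hA _ hKc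
  obtain ⟨PI, hPI⟩ := exists_isHilbPoly k X L hA _ hIc
  have hsum := hilbPoly_kerCoim k X L hA hF.1 hG.1 φ hpF hPK hPI
  have h1 : RedLT d PI P :=
    hG.2.2.2 (Abelian.coimage φ) (Abelian.factorThruCoimage φ) inferInstance hIc
      (not_isZero_coimage φ hφ) hiso PI P hPI hpG
  have h2 : RedLE d PK P := by
    by_cases hK0 : IsZero (kernel φ)
    · have : PK = 0 := isHilbPoly_unique k X L _ hPK (isHilbPoly_of_isZero k X L hA.1 hK0)
      rw [this]; exact redLE_zero_left d P
    · exact hF.2.2.2 (kernel φ) (kernel.ι φ) inferInstance hKc hK0 (not_isIso_kernel_ι φ hφ)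
        PK P hPK hpF
  rw [add_comm] at hsum
  exact absurd_of_redLT_redLE hsum h1 h2

include hA in
/-- a monomorphism between coherent modules with the same Hilbert polynomial is an isomorphism. -/
theorem isIso_of_mono_of_isHilbPoly_eq (hF : Coh.IsCoh F) (hG : Coh.IsCoh G)
    (hpF : ShStab.IsHilbPoly k X L F P) (hpG : ShStab.IsHilbPoly k X L G P) (φ : F ⟶ G)
    [Mono φ] : IsIso φ := by
  have hCc := isCoh_cokernel φ hF hG
  obtain ⟨PC, hPC⟩ := exists_isHilbPoly k X L hA _ hCc
  have hsum := isHilbPoly_unique k X L G hpG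
    (isHilbPoly_add k X L hA.1 (shortExact_coker φ) hF hG hCc hpF hPC)
  have hPC0 : PC = 0 := by
    have : P + 0 = P + PC := by rw [add_zero]; exact hsum
    exact (add_left_cancel this).symm
  rw [hPC0] at hPC
  haveI := epi_of_isZero_cokernel φ (isZero_of_isHilbPoly_zero k X L hA _ hCc hPC)
  exact isIso_of_mono_of_epi φ

include hA in
/-- an epimorphism between coherent modules with the same Hilbert polynomial is an isomorphism. -/
theorem isIso_of_epi_of_isHilbPoly_eq (hF : Coh.IsCoh F) (hG : Coh.IsCoh G)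
    (hpF : ShStab.IsHilbPoly k X L F P) (hpG : ShStab.IsHilbPoly k X L G P) (φ : F ⟶ G)
    [Epi φ] : IsIso φ := by
  have hKc := isCoh_kernel' k X hF hG φ
  obtain ⟨PK, hPK⟩ := exists_isHilbPoly k X L hA _ hKc
  have hsum := isHilbPoly_unique k X L F hpF
    (isHilbPoly_add k X L hA.1 (shortExact_ker φ) hKc hF hG hPK hpG)
  have hPK0 : PK = 0 := by
    have : 0 + P = PK + P := by rw [zero_add]; exact hsum
    exact (add_right_cancel this).symm
  rw [hPK0] at hPK
  haveI := mono_of_isZero_kernel φ (isZero_of_isHilbPoly_zero k X L hA _ hKc hPK)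
  exact isIso_of_mono_of_epi φ

include hA in
/-- **S15195**: a nonzero morphism between semistable modules with the same Hilbert polynomial, one
of which is stable, is an isomorphism. -/
theorem isIso_of_isStable_of_isHilbPoly_eq (hF : ShStab.IsSemistable k X L F d)
    (hG : ShStab.IsSemistable k X L G d)
    (hst : ShStab.IsStable k X L F d ∨ ShStab.IsStable k X L G d)
    (hpF : ShStab.IsHilbPoly k X L F P) (hpG : ShStab.IsHilbPoly k X L G P) (φ : F ⟶ G)
    (hφ : φ ≠ 0) : IsIso φ := by
  rcases hst with hs | hs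
  · haveI := mono_of_isStable_src k X hA d hs hG hpF hpG φ hφ
    exact isIso_of_mono_of_isHilbPoly_eq k X hA hF.1 hG.1 hpF hpG φ
  · haveI := epi_of_isStable_tgt k X hA d hF hs hpF hpG φ hφ
    exact isIso_of_epi_of_isHilbPoly_eq k X hA hF.1 hG.1 hpF hpG φ

include hA in
/-- **S15204**: a nonzero endomorphism of a stable module is an isomorphism. -/
theorem isIso_of_isStable_endo {E : X.Modules} (hE : ShStab.IsStable k X L E d) (φ : E ⟶ E)
    (hφ : φ ≠ 0) : IsIso φ := by
  obtain ⟨P, hP⟩ := exists_isHilbPoly k X L hA E hE.1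
  exact isIso_of_isStable_of_isHilbPoly_eq k X hA d (isSemistable_of_isStable k X L E d hE)
    (isSemistable_of_isStable k X L E d hE) (Or.inl hE) hP hP φ hφ

end Groth.Agent.H5.HP
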