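import Mathlib
import Groth.Agent.Lib.Helper5.HP.HP4
import Groth.Agent.Lib.Helper5.Eig.Eig7
import Groth.Agent.Lib.Lead.QC.Support
import Groth.Agent.Lib.Lead.QC.SuppPullback
import Groth.Agent.Lib.Helper1.CohLen

/-! # Hilbert polynomials, part 6: stable modules over an algebraically closed field are simple. -/

set_option autoImplicit false
universe u
open CategoryTheory CategoryTheory.Limits AlgebraicGeometry Opposite TopologicalSpace

namespace Groth.Agent.H5.HP

open Groth.Agent.LD Groth.Agent.LD.QC StabCat

variable (k : Type u) [Field k] (X : Scheme.{u}) [X.Over (Spec (CommRingCat.of k))]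
  [IsProper (X ↘ Spec (CommRingCat.of k))]

include k in
/-- a nonzero coherent module has a nonzero stalk at some closed point. -/
theorem exists_closed_point_stalk (E : X.Modules) (hE : Coh.IsCoh E) (h0 : ¬ IsZero E) :
    ∃ x : X, IsClosed ({x} : Set X) ∧ Nontrivial (E.presheaf.stalk x) := by
  haveI := Curve.compactSpace k X
  have hcl := isClosed_support_of_isFiniteType E hE.2
  have hne : {x : X | ¬ Subsingleton (E.presheaf.stalk x)}.Nonempty := by
    by_contra hemp
    rw [Set.not_nonempty_iff_eq_empty] at hemp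
    apply h0
    apply isZero_of_subsingleton_stalks
    intro x
    by_contra hx
    have : x ∈ {x : X | ¬ Subsingleton (E.presheaf.stalk x)} := hx
    rw [hemp] at this
    exact this
  obtain ⟨x, hxS, hx⟩ := hcl.exists_closed_singleton hne
  exact ⟨x, hx, not_subsingleton_iff_nontrivial.mp hxS⟩

/-- **S15205**: over an algebraically closed field, every endomorphism of a stable module is a
scalar. -/
theorem endo_scalar_of_isStable [IsAlgClosed k] (L : X.Modules) (hA : CohB1.IsAmple L) (d : ℕ)
    (E : X.Modules) (hE : ShStab.IsStable k X L E d) (φ : E ⟶ E) :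
    ∃ c : k, φ = Ann.smulEnd E (Coh.toGlobal (X ↘ Spec (CommRingCat.of k)) c) := by
  obtain ⟨x, hx, hnt⟩ := exists_closed_point_stalk k X E hE.1 hE.2.1
  haveI := hnt
  haveI : E.IsQuasicoherent := hE.1.1
  haveI : @Module.Finite (X.presheaf.stalk x) (E.presheaf.stalk x) _ _ (QC.stalkModule E x) :=
    Groth.Agent.H1.CohLen.finite_stalk E hE.1.2 x
  obtain ⟨c, hc⟩ := Groth.Agent.H5.Eig.exists_not_isIso_sub_smul_of_finite
    (X ↘ Spec (CommRingCat.of k)) x hx E φ
  refine ⟨c, ?_⟩
  by_contra hne
  apply hc
  apply isIso_of_isStable_endo k X hA d hE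
  intro h
  exact hne (sub_eq_zero.mp h)

end Groth.Agent.H5.HP
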