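import Mathlib
import Groth.Agent.Lib.Helper5.HP.HP4
import Groth.Agent.Lib.Helper5.Deg.Deg7

/-! # Hilbert polynomials, part 7: morphisms between semistable modules (with positivity). -/

set_option autoImplicit false
universe u
open CategoryTheory CategoryTheory.Limits AlgebraicGeometry Opposite TopologicalSpace

namespace Groth.Agent.H5.HP

open Groth.Agent.LD Groth.Agent.LD.QC StabCat Groth.Agent.H5.Deg

section Num

lemma num_chain {a b x y f g κ ι : ℚ} (ha : a = x + y) (hf : f = κ + ι) (ha0 : 0 ≤ a)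
    (hb0 : 0 ≤ b) (h1 : a * κ ≤ x * f) (h2 : b * ι ≤ y * g) : b * (y * f) ≤ y * (a * g) := by
  have e0 : a * f = x * f + y * f := by rw [ha]; ring
  have e0' : a * κ = a * f - a * ι := by rw [hf]; ring
  have e1 : y * f ≤ a * ι := by linarith
  have e2 : b * (y * f) ≤ b * (a * ι) := mul_le_mul_of_nonneg_left e1 hb0
  have e3 : a * (b * ι) ≤ a * (y * g) := mul_le_mul_of_nonneg_left h2 ha0
  have e4 : b * (a * ι) = a * (b * ι) := by ring
  have e5 : a * (y * g) = y * (a * g) := by ring
  linarith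

lemma num_chain_lt1 {a b x y f g κ ι : ℚ} (ha : a = x + y) (hf : f = κ + ι) (ha0 : 0 ≤ a)
    (hb0 : 0 < b) (h1 : a * κ < x * f) (h2 : b * ι ≤ y * g) : b * (y * f) < y * (a * g) := by
  have e0 : a * f = x * f + y * f := by rw [ha]; ring
  have e0' : a * κ = a * f - a * ι := by rw [hf]; ring
  have e1 : y * f < a * ι := by linarith
  have e2 : b * (y * f) < b * (a * ι) := mul_lt_mul_of_pos_left e1 hb0
  have e3 : a * (b * ι) ≤ a * (y * g) := mul_le_mul_of_nonneg_left h2 ha0
  have e4 : b * (a * ι) = a * (b * ι) := by ring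
  have e5 : a * (y * g) = y * (a * g) := by ring
  linarith

lemma num_chain_lt2 {a b x y f g κ ι : ℚ} (ha : a = x + y) (hf : f = κ + ι) (ha0 : 0 < a)
    (hb0 : 0 ≤ b) (h1 : a * κ ≤ x * f) (h2 : b * ι < y * g) : b * (y * f) < y * (a * g) := by
  have e0 : a * f = x * f + y * f := by rw [ha]; ring
  have e0' : a * κ = a * f - a * ι := by rw [hf]; ring
  have e1 : y * f ≤ a * ι := by linarith
  have e2 : b * (y * f) ≤ b * (a * ι) := mul_le_mul_of_nonneg_left e1 hb0
  have e3 : a * (b * ι) < a * (y * g) := mul_lt_mul_of_pos_left h2 ha0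
  have e4 : b * (a * ι) = a * (b * ι) := by ring
  have e5 : a * (y * g) = y * (a * g) := by ring
  linarith

variable {d : ℕ} {pF pG PK PI : Polynomial ℚ}

/-- semistable to semistable with strictly smaller reduced polynomial. -/
lemma absurd_of_redLT (hsum : pF = PK + PI) (ha : 0 ≤ alpha d pF) (hb : 0 ≤ alpha d pG)
    (hy : 0 < alpha d PI) (h1 : RedLE d PK pF) (h2 : RedLE d PI pG) (h3 : RedLT d pG pF) :
    False := by
  obtain ⟨N₁, h1⟩ := h1
  obtain ⟨N₂, h2⟩ := h2
  obtain ⟨N₃, h3⟩ := h3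
  set m := max N₁ (max N₂ N₃)
  have a1 := h1 m (le_max_left _ _)
  have a2 := h2 m ((le_max_left _ _).trans (le_max_right _ _))
  have a3 := h3 m ((le_max_right _ _).trans (le_max_right _ _))
  simp only [Polynomial.eval_smul, smul_eq_mul] at a1 a2 a3
  have haa : alpha d pF = alpha d PK + alpha d PI := by rw [hsum, alpha_add]
  have hff : pF.eval (m : ℚ) = PK.eval (m : ℚ) + PI.eval (m : ℚ) := by
    rw [hsum, Polynomial.eval_add]
  have c := num_chain haa hff ha hb a1 a2
  have c2 : alpha d PI * (alpha d pF * pG.eval (m : ℚ)) <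
      alpha d PI * (alpha d pG * pF.eval (m : ℚ)) := mul_lt_mul_of_pos_left a3 hy
  have c3 : alpha d pG * (alpha d PI * pF.eval (m : ℚ)) =
      alpha d PI * (alpha d pG * pF.eval (m : ℚ)) := by ring
  linarith

/-- stable to semistable with equal reduced polynomials: the kernel cannot be nonzero. -/
lemma absurd_of_redEq_src (hsum : pF = PK + PI) (ha : 0 ≤ alpha d pF) (hb : 0 < alpha d pG)
    (h1 : RedLT d PK pF) (h2 : RedLE d PI pG) (h3 : RedEq d pF pG) : False := by
  obtain ⟨N₁, h1⟩ := h1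
  obtain ⟨N₂, h2⟩ := h2
  set m := max N₁ N₂
  have a1 := h1 m (le_max_left _ _)
  have a2 := h2 m (le_max_right _ _)
  have a3 := congrArg (fun p => Polynomial.eval (m : ℚ) p) h3
  simp only [Polynomial.eval_smul, smul_eq_mul] at a1 a2 a3
  have haa : alpha d pF = alpha d PK + alpha d PI := by rw [hsum, alpha_add]
  have hff : pF.eval (m : ℚ) = PK.eval (m : ℚ) + PI.eval (m : ℚ) := by
    rw [hsum, Polynomial.eval_add]
  have c := num_chain_lt1 haa hff ha hb a1 a2
  have c3 : alpha d pG * (alpha d PI * pF.eval (m : ℚ)) =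
      alpha d PI * (alpha d pG * pF.eval (m : ℚ)) := by ring
  rw [← a3] at c
  linarith

/-- semistable to stable with equal reduced polynomials: the image cannot be proper. -/
lemma absurd_of_redEq_tgt (hsum : pF = PK + PI) (ha : 0 < alpha d pF) (hb : 0 ≤ alpha d pG)
    (h1 : RedLE d PK pF) (h2 : RedLT d PI pG) (h3 : RedEq d pF pG) : False := by
  obtain ⟨N₁, h1⟩ := h1
  obtain ⟨N₂, h2⟩ := h2
  set m := max N₁ N₂
  have a1 := h1 m (le_max_left _ _)
  have a2 := h2 m (le_max_right _ _)
  have a3 := congrArg (fun p => Polynomial.eval (m : ℚ) p) h3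
  simp only [Polynomial.eval_smul, smul_eq_mul] at a1 a2 a3
  have haa : alpha d pF = alpha d PK + alpha d PI := by rw [hsum, alpha_add]
  have hff : pF.eval (m : ℚ) = PK.eval (m : ℚ) + PI.eval (m : ℚ) := by
    rw [hsum, Polynomial.eval_add]
  have c := num_chain_lt2 haa hff ha hb a1 a2
  have c3 : alpha d pG * (alpha d PI * pF.eval (m : ℚ)) =
      alpha d PI * (alpha d pG * pF.eval (m : ℚ)) := by ring
  rw [← a3] at c
  linarith

end Num

variable (k : Type u) [Field k] (X : Scheme.{u}) [X.Over (Spec (CommRingCat.of k))]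
  [IsProper (X ↘ Spec (CommRingCat.of k))] {L : X.Modules} (hA : CohB1.IsAmple L) (d : ℕ)

include hA in
/-- the multiplicity of a nonzero coherent submodule of a pure module is positive. -/
theorem alpha_pos_of_isPure {G I : X.Modules} (hG : ShStab.IsPure X G d) (ι : I ⟶ G) [Mono ι]
    (hI : Coh.IsCoh I) (hI0 : ¬ IsZero I) {PI : Polynomial ℚ}
    (hPI : ShStab.IsHilbPoly k X L I PI) : 0 < alpha d PI :=
  alpha_pos k X hA I hI hI0 hPI d (hG I ι inferInstance hI hI0)

include hA in
theorem alpha_pos_of_isSemistable {G : X.Modules} (hG : ShStab.IsSemistable k X L G d)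
    {P : Polynomial ℚ} (hP : ShStab.IsHilbPoly k X L G P) : 0 < alpha d P :=
  alpha_pos_of_isPure k X hA d hG.2.2.1 (𝟙 G) hG.1 hG.2.1 hP

variable {F G : X.Modules} {pF pG : Polynomial ℚ}

include hA in
/-- the reduced comparison for the kernel of a nonzero morphism from a semistable module. -/
lemma redLE_kernel (hF : ShStab.IsSemistable k X L F d) (hG : Coh.IsCoh G) (φ : F ⟶ G)
    (hφ : φ ≠ 0) (hpF : ShStab.IsHilbPoly k X L F pF) {PK : Polynomial ℚ}
    (hPK : ShStab.IsHilbPoly k X L (kernel φ) PK) : RedLE d PK pF := by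
  by_cases hK0 : IsZero (kernel φ)
  · have : PK = 0 := isHilbPoly_unique k X L _ hPK (isHilbPoly_of_isZero k X L hA.1 hK0)
    rw [this]; exact redLE_zero_left d pF
  · exact hF.2.2.2 (kernel φ) (kernel.ι φ) inferInstance (isCoh_kernel' k X hF.1 hG φ) hK0
      (not_isIso_kernel_ι φ hφ) PK pF hPK hpF

/-- the reduced comparison for the image of a nonzero morphism to a semistable module. -/
lemma redLE_coimage (hF : Coh.IsCoh F) (hG : ShStab.IsSemistable k X L G d) (φ : F ⟶ G)
    (hφ : φ ≠ 0) (hpG : ShStab.IsHilbPoly k X L G pG) {PI : Polynomial ℚ}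
    (hPI : ShStab.IsHilbPoly k X L (Abelian.coimage φ) PI) : RedLE d PI pG := by
  by_cases hiso : IsIso (Abelian.factorThruCoimage φ)
  · have : PI = pG := isHilbPoly_unique k X L G
      (isHilbPoly_of_iso k X L (asIso (Abelian.factorThruCoimage φ)) hPI) hpG
    rw [this]; exact redLE_refl d pG
  · exact hG.2.2.2 (Abelian.coimage φ) (Abelian.factorThruCoimage φ) inferInstance
      (isCoh_coimage k X hF hG.1 φ) (not_isZero_coimage φ hφ) hiso PI pG hPI hpG

include hA in
/-- **S15192**: there are no nonzero morphisms from a semistable module to a semistable module of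
strictly smaller reduced Hilbert polynomial. -/
theorem hom_eq_zero_of_redLT (hF : ShStab.IsSemistable k X L F d)
    (hG : ShStab.IsSemistable k X L G d) (hpF : ShStab.IsHilbPoly k X L F pF)
    (hpG : ShStab.IsHilbPoly k X L G pG) (hlt : RedLT d pG pF) (φ : F ⟶ G) : φ = 0 := by
  by_contra hφ
  have hKc := isCoh_kernel' k X hF.1 hG.1 φ
  have hIc := isCoh_coimage k X hF.1 hG.1 φ
  obtain ⟨PK, hPK⟩ := exists_isHilbPoly k X L hA _ hKc
  obtain ⟨PI, hPI⟩ := exists_isHilbPoly k X L hA _ hIc
  have hsum := hilbPoly_kerCoim k X L hA hF.1 hG.1 φ hpF hPK hPI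
  have hy : 0 < alpha d PI := alpha_pos_of_isPure k X hA d hG.2.2.1
    (Abelian.factorThruCoimage φ) hIc (not_isZero_coimage φ hφ) hPI
  exact absurd_of_redLT hsum (alpha_pos_of_isSemistable k X hA d hF hpF).le
    (alpha_pos_of_isSemistable k X hA d hG hpG).le hy
    (redLE_kernel k X hA d hF hG.1 φ hφ hpF hPK) (redLE_coimage k X d hF.1 hG φ hφ hpG hPI) hlt

include hA in
/-- **S15193**: a nonzero morphism from a stable module to a semistable module with the same
reduced Hilbert polynomial is a monomorphism. -/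
theorem mono_of_isStable_of_redEq (hF : ShStab.IsStable k X L F d)
    (hG : ShStab.IsSemistable k X L G d) (hpF : ShStab.IsHilbPoly k X L F pF)
    (hpG : ShStab.IsHilbPoly k X L G pG) (heq : RedEq d pF pG) (φ : F ⟶ G) (hφ : φ ≠ 0) :
    Mono φ := by
  by_contra hm
  have hFs := isSemistable_of_isStable k X L F d hF
  have hK0 : ¬ IsZero (kernel φ) := fun h => hm (mono_of_isZero_kernel φ h)
  have hKc := isCoh_kernel' k X hF.1 hG.1 φ
  have hIc := isCoh_coimage k X hF.1 hG.1 φ
  obtain ⟨PK, hPK⟩ := exists_isHilbPoly k X L hA _ hKc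
  obtain ⟨PI, hPI⟩ := exists_isHilbPoly k X L hA _ hIc
  have hsum := hilbPoly_kerCoim k X L hA hF.1 hG.1 φ hpF hPK hPI
  have h1 : RedLT d PK pF :=
    hF.2.2.2 (kernel φ) (kernel.ι φ) inferInstance hKc hK0 (not_isIso_kernel_ι φ hφ) PK pF hPK hpF
  exact absurd_of_redEq_src hsum (alpha_pos_of_isSemistable k X hA d hFs hpF).le
    (alpha_pos_of_isSemistable k X hA d hG hpG) h1 (redLE_coimage k X d hF.1 hG φ hφ hpG hPI) heq

include hA in
/-- **S15194**: a nonzero morphism from a semistable module to a stable module with the same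
reduced Hilbert polynomial is an epimorphism. -/
theorem epi_of_isStable_of_redEq (hF : ShStab.IsSemistable k X L F d)
    (hG : ShStab.IsStable k X L G d) (hpF : ShStab.IsHilbPoly k X L F pF)
    (hpG : ShStab.IsHilbPoly k X L G pG) (heq : RedEq d pF pG) (φ : F ⟶ G) (hφ : φ ≠ 0) :
    Epi φ := by
  by_contra hm
  have hGs := isSemistable_of_isStable k X L G d hG
  have hiso : ¬ IsIso (Abelian.factorThruCoimage φ) :=
    fun h => hm (epi_of_isIso_factorThruCoimage φ h)
  have hKc := isCoh_kernel' k X hF.1 hG.1 φ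
  have hIc := isCoh_coimage k X hF.1 hG.1 φ
  obtain ⟨PK, hPK⟩ := exists_isHilbPoly k X L hA _ hKc
  obtain ⟨PI, hPI⟩ := exists_isHilbPoly k X L hA _ hIc
  have hsum := hilbPoly_kerCoim k X L hA hF.1 hG.1 φ hpF hPK hPI
  have h2 : RedLT d PI pG :=
    hG.2.2.2 (Abelian.coimage φ) (Abelian.factorThruCoimage φ) inferInstance hIc
      (not_isZero_coimage φ hφ) hiso PI pG hPI hpG
  exact absurd_of_redEq_tgt hsum (alpha_pos_of_isSemistable k X hA d hF hpF)
    (alpha_pos_of_isSemistable k X hA d hGs hpG).le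
    (redLE_kernel k X hA d hF hG.1 φ hφ hpF hPK) h2 heq

end Groth.Agent.H5.HP
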