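import Mathlib
import Groth.Agent.Lib.Helper5.HP.HP7

/-! # Hilbert polynomials, part 8: polynomial asymptotics and truncations. -/

set_option autoImplicit false

namespace Groth.Agent.H5.HP

open StabCat Polynomial

/-- a polynomial with positive leading coefficient is eventually positive on the naturals. -/
theorem eventually_pos_of_leadingCoeff_pos (P : ℚ[X]) (h : 0 < P.leadingCoeff) :
    ∃ N : ℕ, ∀ m : ℕ, N ≤ m → 0 < P.eval (m : ℚ) := by
  by_cases hdeg : P.natDegree = 0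
  · obtain ⟨c, rfl⟩ := natDegree_eq_zero.mp hdeg
    rw [leadingCoeff_C] at h
    exact ⟨0, fun m _ => by rw [eval_C]; exact h⟩
  · have hdeg' : 0 < P.degree := natDegree_pos_iff_degree_pos.mp (Nat.pos_of_ne_zero hdeg)
    have ht := P.tendsto_atTop_of_leadingCoeff_nonneg hdeg' h.le
    have ht' : Filter.Tendsto (fun m : ℕ => P.eval (m : ℚ)) Filter.atTop Filter.atTop :=
      ht.comp tendsto_natCast_atTop_atTop
    obtain ⟨N, hN⟩ := Filter.eventually_atTop.mp (Filter.tendsto_atTop.mp ht' 1)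
    exact ⟨N, fun m hm => lt_of_lt_of_le one_pos (hN m hm)⟩

/-- a polynomial which is eventually non-negative on the naturals has non-negative leading
coefficient. -/
theorem leadingCoeff_nonneg_of_eventually_nonneg (Q : ℚ[X])
    (h : ∃ N : ℕ, ∀ m : ℕ, N ≤ m → 0 ≤ Q.eval (m : ℚ)) : 0 ≤ Q.leadingCoeff := by
  by_contra hneg
  push Not at hneg
  have h' : 0 < (-Q).leadingCoeff := by rw [leadingCoeff_neg]; linarith
  obtain ⟨N₁, hN₁⟩ := eventually_pos_of_leadingCoeff_pos (-Q) h'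
  obtain ⟨N₂, hN₂⟩ := h
  have a1 := hN₁ (max N₁ N₂) (le_max_left _ _)
  have a2 := hN₂ (max N₁ N₂) (le_max_right _ _)
  rw [eval_neg] at a1
  linarith

/-- a polynomial of degree at most `n`, eventually non-negative, has non-negative `n`-th
coefficient. -/
theorem coeff_nonneg_of_eventually_nonneg (Q : ℚ[X]) (n : ℕ) (hn : Q.natDegree ≤ n)
    (h : ∃ N : ℕ, ∀ m : ℕ, N ≤ m → 0 ≤ Q.eval (m : ℚ)) : 0 ≤ Q.coeff n := by
  by_cases hc : Q.coeff n = 0
  · rw [hc]
  · have hd : Q.natDegree = n := natDegree_eq_of_le_of_coeff_ne_zero hn hc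
    have := leadingCoeff_nonneg_of_eventually_nonneg Q h
    rwa [leadingCoeff, hd] at this

lemma alpha_eq_zero_of_natDegree_lt {d : ℕ} {P : ℚ[X]} (h : P.natDegree < d) : alpha d P = 0 := by
  unfold alpha
  rw [coeff_eq_zero_of_natDegree_lt h, mul_zero]

lemma alpha_smul (d : ℕ) (c : ℚ) (P : ℚ[X]) : alpha d (c • P) = c * alpha d P := by
  unfold alpha; rw [coeff_smul, smul_eq_mul]; ring

lemma alpha_sub (d : ℕ) (P Q : ℚ[X]) : alpha d (P - Q) = alpha d P - alpha d Q := by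
  unfold alpha; rw [coeff_sub]; ring

/-- coefficients of the truncation. -/
lemma coeff_topPart (ℓ d : ℕ) (P : ℚ[X]) (i : ℕ) :
    (topPart ℓ d P).coeff i = if d - ℓ ≤ i ∧ i ≤ d then P.coeff i else 0 := by
  unfold topPart
  rw [finsetSum_coeff]
  simp only [coeff_monomial]
  rw [Finset.sum_ite_eq' (Finset.Icc (d - ℓ) d) i (fun j => P.coeff j)]
  simp [Finset.mem_Icc]

lemma topPart_eq_self {ℓ d : ℕ} (hℓ : d ≤ ℓ) {P : ℚ[X]} (hP : P.natDegree ≤ d) :
    topPart ℓ d P = P := by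
  ext i
  rw [coeff_topPart]
  have h0 : d - ℓ = 0 := by omega
  by_cases hi : i ≤ d
  · simp [h0, hi]
  · have : ¬ (d - ℓ ≤ i ∧ i ≤ d) := fun h => hi h.2
    rw [if_neg this, coeff_eq_zero_of_natDegree_lt (by omega)]

lemma alpha_topPart (ℓ d : ℕ) (P : ℚ[X]) : alpha d (topPart ℓ d P) = alpha d P := by
  unfold alpha
  rw [coeff_topPart, if_pos ⟨Nat.sub_le d ℓ, le_rfl⟩]

lemma topPart_sub (ℓ d : ℕ) (P Q : ℚ[X]) : topPart ℓ d (P - Q) = topPart ℓ d P - topPart ℓ d Q := by
  ext i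
  rw [coeff_sub, coeff_topPart, coeff_topPart, coeff_topPart]
  split_ifs <;> simp

lemma topPart_smul (ℓ d : ℕ) (c : ℚ) (P : ℚ[X]) : topPart ℓ d (c • P) = c • topPart ℓ d P := by
  ext i
  rw [coeff_smul, coeff_topPart, coeff_topPart]
  split_ifs <;> simp

/-- truncation preserves eventual non-negativity for polynomials of degree at most `d`. -/
theorem topPart_eventually_nonneg (ℓ d : ℕ) (Q : ℚ[X]) (hQ : Q.natDegree ≤ d)
    (h : ∃ N : ℕ, ∀ m : ℕ, N ≤ m → 0 ≤ Q.eval (m : ℚ)) :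
    ∃ N : ℕ, ∀ m : ℕ, N ≤ m → 0 ≤ (topPart ℓ d Q).eval (m : ℚ) := by
  by_cases hT : topPart ℓ d Q = 0
  · exact ⟨0, fun m _ => by rw [hT, eval_zero]⟩
  · -- the leading coefficient of the truncation is that of `Q`
    have hlc : (topPart ℓ d Q).leadingCoeff = Q.leadingCoeff := by
      have hne : (topPart ℓ d Q).leadingCoeff ≠ 0 := leadingCoeff_ne_zero.mpr hT
      rw [leadingCoeff, coeff_topPart] at hne
      have hcond : d - ℓ ≤ (topPart ℓ d Q).natDegree ∧ (topPart ℓ d Q).natDegree ≤ d := by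
        by_contra hc
        rw [if_neg hc] at hne
        exact hne rfl
      rw [if_pos hcond] at hne
      have h1 : (topPart ℓ d Q).natDegree ≤ Q.natDegree := le_natDegree_of_ne_zero hne
      have h2 : Q.natDegree ≤ (topPart ℓ d Q).natDegree := by
        have hQ0 : Q ≠ 0 := fun h0 => by simp [h0] at hne
        have hlcQ : Q.coeff Q.natDegree ≠ 0 := leadingCoeff_ne_zero.mpr hQ0
        apply le_natDegree_of_ne_zero
        rw [coeff_topPart, if_pos ⟨by omega, hQ⟩]
        exact hlcQ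
      have heq : (topPart ℓ d Q).natDegree = Q.natDegree := le_antisymm h1 h2
      rw [leadingCoeff, leadingCoeff, heq, coeff_topPart, if_pos ⟨by omega, hQ⟩]
    have hpos : 0 < (topPart ℓ d Q).leadingCoeff := by
      rw [hlc]
      refine lt_of_le_of_ne (leadingCoeff_nonneg_of_eventually_nonneg Q h) ?_
      rw [← hlc]
      exact (leadingCoeff_ne_zero.mpr hT).symm
    obtain ⟨N, hN⟩ := eventually_pos_of_leadingCoeff_pos _ hpos
    exact ⟨N, fun m hm => (hN m hm).le⟩

/-- truncation preserves eventual positivity for polynomials of degree at most `d` whose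
truncation is nonzero. -/
theorem topPart_eventually_pos (ℓ d : ℕ) (Q : ℚ[X]) (hQ : Q.natDegree ≤ d)
    (h : ∃ N : ℕ, ∀ m : ℕ, N ≤ m → 0 ≤ Q.eval (m : ℚ)) (hT : topPart ℓ d Q ≠ 0) :
    ∃ N : ℕ, ∀ m : ℕ, N ≤ m → 0 < (topPart ℓ d Q).eval (m : ℚ) := by
  obtain ⟨N, hN⟩ := topPart_eventually_nonneg ℓ d Q hQ h
  have hlc : 0 < (topPart ℓ d Q).leadingCoeff :=
    lt_of_le_of_ne (leadingCoeff_nonneg_of_eventually_nonneg _ ⟨N, hN⟩)
      (leadingCoeff_ne_zero.mpr hT).symm
  exact eventually_pos_of_leadingCoeff_pos _ hlc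

end Groth.Agent.H5.HP
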