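import Mathlib
import Groth.Agent.Lib.Helper5.HP.HP8

/-! # Hilbert polynomials, part 9: purity from the semistability inequality; multiplicities. -/

set_option autoImplicit false
universe u
open CategoryTheory CategoryTheory.Limits AlgebraicGeometry Opposite TopologicalSpace

namespace Groth.Agent.H5.HP

open Groth.Agent.LD Groth.Agent.LD.QC StabCat Groth.Agent.H5.Deg

variable (k : Type u) [Field k] (X : Scheme.{u}) [X.Over (Spec (CommRingCat.of k))]
  [IsProper (X ↘ Spec (CommRingCat.of k))] {L : X.Modules} (hA : CohB1.IsAmple L) (d : ℕ)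

include hA in
/-- the degree of the Hilbert polynomial of a coherent module is bounded by the dimension of any
closed set containing its support. -/
theorem natDegree_le_of_support_subset {C E : X.Modules} (hC : Coh.IsCoh C) (hE : Coh.IsCoh E)
    (hsub : CohB1.support C ⊆ CohB1.support E)
    (hdim : topologicalKrullDim (CohB1.support E) = (d : WithBot ℕ∞)) {PC : Polynomial ℚ}
    (hPC : ShStab.IsHilbPoly k X L C PC) : PC.natDegree ≤ d := by
  by_cases hC0 : IsZero C
  · have : PC = 0 := isHilbPoly_unique k X L _ hPC (isHilbPoly_of_isZero k X L hA.1 hC0)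
    rw [this]; simp
  · have h1 := natDegree_eq_dim k X hA C hC hC0 hPC
    have h2 : topologicalKrullDim (CohB1.support C) ≤ topologicalKrullDim (CohB1.support E) := by
      rw [topologicalKrullDim_eq_dimX (isClosed_support_of_isCoh hC),
        topologicalKrullDim_eq_dimX (isClosed_support_of_isCoh hE)]
      exact dimX_mono hsub
    rw [← h1, hdim] at h2
    exact_mod_cast h2

include hA in
/-- multiplicities are non-negative. -/
theorem alpha_nonneg_of_support_subset {C E : X.Modules} (hC : Coh.IsCoh C) (hE : Coh.IsCoh E)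
    (hsub : CohB1.support C ⊆ CohB1.support E)
    (hdim : topologicalKrullDim (CohB1.support E) = (d : WithBot ℕ∞)) {PC : Polynomial ℚ}
    (hPC : ShStab.IsHilbPoly k X L C PC) : 0 ≤ alpha d PC := by
  have hle := natDegree_le_of_support_subset k X hA d hC hE hsub hdim hPC
  rcases lt_or_eq_of_le hle with h | h
  · rw [alpha_eq_zero_of_natDegree_lt h]
  · by_cases hC0 : IsZero C
    · have : PC = 0 := isHilbPoly_unique k X L _ hPC (isHilbPoly_of_isZero k X L hA.1 hC0)
      rw [this, alpha_zero]
    · have hl := leadingCoeff_pos k X L hA C hC hC0 hPC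
      unfold alpha
      rw [Polynomial.leadingCoeff, h] at hl
      positivity

include hA in
/-- the semistability inequality implies purity. -/
theorem isPure_of_isSS {E : X.Modules} (hE : Coh.IsCoh E) (h0 : ¬ IsZero E)
    (hdim : topologicalKrullDim (CohB1.support E) = (d : WithBot ℕ∞))
    (hSS : StabCat.IsSS Coh.IsCoh (ShStab.IsHilbPoly k X L) d E) : ShStab.IsPure X E d := by
  intro F ι hι hF hF0
  haveI := hι
  by_cases hiso : IsIso ι
  · rw [support_eq_of_iso (asIso ι)]; exact hdim
  · obtain ⟨PF, hPF⟩ := exists_isHilbPoly k X L hA F hF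
    obtain ⟨PE, hPE⟩ := exists_isHilbPoly k X L hA E hE
    have hle := natDegree_le_of_support_subset k X hA d hF hE (support_subset_of_mono ι) hdim hPF
    have hdeg : PF.natDegree = d := by
      rcases lt_or_eq_of_le hle with h | h
      · exfalso
        have ha0 := alpha_eq_zero_of_natDegree_lt h
        obtain ⟨N₁, h1⟩ := hSS F ι hι hF hF0 hiso PF PE hPF hPE
        have haE := alpha_pos k X hA E hE h0 hPE d hdim
        obtain ⟨N₂, h2⟩ := eventually_pos_of_leadingCoeff_pos PF
          (leadingCoeff_pos k X L hA F hF hF0 hPF)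
        have a1 := h1 (max N₁ N₂) (le_max_left _ _)
        have a2 := h2 (max N₁ N₂) (le_max_right _ _)
        rw [ha0, zero_smul, Polynomial.eval_zero, Polynomial.eval_smul, smul_eq_mul] at a1
        have := mul_pos haE a2
        linarith
      · exact h
    rw [← natDegree_eq_dim k X hA F hF hF0 hPF, hdeg]

include hA in
/-- **S15213**. -/
theorem isSemistable_iff_isSS {E : X.Modules} (hE : Coh.IsCoh E) (h0 : ¬ IsZero E)
    (hdim : topologicalKrullDim (CohB1.support E) = (d : WithBot ℕ∞)) :
    ShStab.IsSemistable k X L E d ↔ StabCat.IsSS Coh.IsCoh (ShStab.IsHilbPoly k X L) d E :=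
  ⟨fun h => h.2.2.2, fun h => ⟨hE, h0, isPure_of_isSS k X hA d hE h0 hdim h, h⟩⟩

include hA in
/-- **S15214**. -/
theorem isStable_iff_isSt {E : X.Modules} (hE : Coh.IsCoh E) (h0 : ¬ IsZero E)
    (hdim : topologicalKrullDim (CohB1.support E) = (d : WithBot ℕ∞)) :
    ShStab.IsStable k X L E d ↔ StabCat.IsSt Coh.IsCoh (ShStab.IsHilbPoly k X L) d E :=
  ⟨fun h => h.2.2.2, fun h => ⟨hE, h0, isPure_of_isSS k X hA d hE h0 hdim
    (fun F ι hι hF hF0 hni pF pE hpF hpE => redLE_of_redLT (h F ι hι hF hF0 hni pF pE hpF hpE)),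
    h⟩⟩

end Groth.Agent.H5.HP
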