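import Mathlib
import Groth.Agent.Lib.Helper5.HP.HP9

/-! # Hilbert polynomials, part 10: slope semistability and `ℓ`-semistability of Gieseker
semistable modules. -/

set_option autoImplicit false
universe u
open CategoryTheory CategoryTheory.Limits AlgebraicGeometry Opposite TopologicalSpace

namespace Groth.Agent.H5.HP

open Groth.Agent.LD Groth.Agent.LD.QC StabCat Groth.Agent.H5.Deg

variable (k : Type u) [Field k] (X : Scheme.{u}) [X.Over (Spec (CommRingCat.of k))]
  [IsProper (X ↘ Spec (CommRingCat.of k))] {L : X.Modules} (hA : CohB1.IsAmple L) (d : ℕ)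

/-- a pure coherent nonzero module has support of dimension `d`. -/
lemma dim_support_of_isPure {E : X.Modules} (hE : Coh.IsCoh E) (h0 : ¬ IsZero E)
    (hp : ShStab.IsPure X E d) : topologicalKrullDim (CohB1.support E) = (d : WithBot ℕ∞) :=
  hp E (𝟙 E) inferInstance hE h0

include hA in
lemma not_isZero_of_alpha_pos {F : X.Modules} {pF : Polynomial ℚ}
    (hpF : ShStab.IsHilbPoly k X L F pF) (hpos : 0 < alpha d pF) : ¬ IsZero F := by
  intro hz
  have : pF = 0 := isHilbPoly_unique k X L _ hpF (isHilbPoly_of_isZero k X L hA.1 hz)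
  rw [this, alpha_zero] at hpos
  exact lt_irrefl _ hpos

lemma not_isIso_of_alpha_lt {E F : X.Modules} (ι : F ⟶ E) {pF pE : Polynomial ℚ}
    (hpF : ShStab.IsHilbPoly k X L F pF) (hpE : ShStab.IsHilbPoly k X L E pE)
    (hlt : alpha d pF < alpha d pE) : ¬ IsIso ι := by
  intro hiso
  have : pF = pE := isHilbPoly_unique k X L E (isHilbPoly_of_iso k X L (asIso ι) hpF) hpE
  rw [this] at hlt
  exact lt_irrefl _ hlt

include hA in
lemma natDegree_sub_of_isPure {E F : X.Modules} (hp : ShStab.IsPure X E d) (ι : F ⟶ E) [Mono ι]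
    (hF : Coh.IsCoh F) {pF : Polynomial ℚ} (hpF : ShStab.IsHilbPoly k X L F pF)
    (hF0 : ¬ IsZero F) : pF.natDegree = d :=
  natDegree_eq_of_dim k X hA F hF hF0 hpF d (hp F ι inferInstance hF hF0)

include hA in
lemma natDegree_of_isPure {E : X.Modules} (hE : Coh.IsCoh E) (h0 : ¬ IsZero E)
    (hp : ShStab.IsPure X E d) {pE : Polynomial ℚ} (hpE : ShStab.IsHilbPoly k X L E pE) :
    pE.natDegree = d :=
  natDegree_eq_of_dim k X hA E hE h0 hpE d (dim_support_of_isPure X d hE h0 hp)


/-- the difference polynomial `α(F) P_E - α(E) P_F`. -/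
noncomputable def crossDiff (pF pE : Polynomial ℚ) : Polynomial ℚ :=
  alpha d pF • pE - alpha d pE • pF

lemma crossDiff_eventually_nonneg {pF pE : Polynomial ℚ} (h : RedLE d pF pE) :
    ∃ N : ℕ, ∀ m : ℕ, N ≤ m → 0 ≤ (crossDiff d pF pE).eval (m : ℚ) := by
  obtain ⟨N, hN⟩ := h
  refine ⟨N, fun m hm => ?_⟩
  unfold crossDiff
  rw [Polynomial.eval_sub]
  linarith [hN m hm]

lemma natDegree_crossDiff_le {pF pE : Polynomial ℚ} (hF : pF.natDegree ≤ d)
    (hE : pE.natDegree ≤ d) : (crossDiff d pF pE).natDegree ≤ d := by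
  unfold crossDiff
  refine (Polynomial.natDegree_sub_le _ _).trans (max_le ?_ ?_)
  · exact (Polynomial.natDegree_smul_le _ _).trans hE
  · exact (Polynomial.natDegree_smul_le _ _).trans hF

lemma coeff_crossDiff_top (pF pE : Polynomial ℚ) : (crossDiff d pF pE).coeff d = 0 := by
  unfold crossDiff alpha
  rw [Polynomial.coeff_sub, Polynomial.coeff_smul, Polynomial.coeff_smul, smul_eq_mul, smul_eq_mul]
  ring

/-- comparison of slopes from the comparison of reduced polynomials. -/
theorem hatSlope_le_of_redLE (hd : 1 ≤ d) {pF pE : Polynomial ℚ} (hF : pF.natDegree ≤ d)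
    (hE : pE.natDegree ≤ d) (haF : 0 < alpha d pF) (haE : 0 < alpha d pE)
    (h : RedLE d pF pE) : hatSlope d pF ≤ hatSlope d pE := by
  have hQ := crossDiff_eventually_nonneg d h
  have hdeg : (crossDiff d pF pE).natDegree ≤ d - 1 := by
    rw [Polynomial.natDegree_le_iff_coeff_eq_zero]
    intro N hN
    by_cases hNd : N = d
    · rw [hNd]; exact coeff_crossDiff_top d pF pE
    · exact Polynomial.coeff_eq_zero_of_natDegree_lt
        (lt_of_le_of_lt (natDegree_crossDiff_le d hF hE) (by omega))
  have hc := coeff_nonneg_of_eventually_nonneg _ (d - 1) hdeg hQ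
  unfold crossDiff at hc
  rw [Polynomial.coeff_sub, Polynomial.coeff_smul, Polynomial.coeff_smul, smul_eq_mul,
    smul_eq_mul] at hc
  unfold hatSlope
  rw [div_le_div_iff₀ haF haE]
  have hfac : (0 : ℚ) < ((d - 1).factorial : ℚ) := by exact_mod_cast Nat.factorial_pos _
  have e1 : alpha (d - 1) pF = ((d - 1).factorial : ℚ) * pF.coeff (d - 1) := rfl
  have e2 : alpha (d - 1) pE = ((d - 1).factorial : ℚ) * pE.coeff (d - 1) := rfl
  rw [e1, e2]
  nlinarith [mul_nonneg hfac.le hc]

include hA in
/-- **S15210**: a semistable module of dimension `d ≥ 1` is slope-semistable. -/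
theorem isMuSemistable_of_isSemistable (hd : 1 ≤ d) {E : X.Modules}
    (hE : ShStab.IsSemistable k X L E d) : ShStab.IsMuSemistable k X L E d := by
  obtain ⟨hEc, h0, hp, hSS⟩ := hE
  refine ⟨hEc, h0, dim_support_of_isPure X d hEc h0 hp, ?_, ?_⟩
  · intro F ι hι hF
    by_cases hF0 : IsZero F
    · have hemp : IsEmpty (CohB1.support F) := by
        rw [support_eq_empty_of_isZero hF0]; exact Set.isEmpty_coe_sort.mpr rfl
      have : topologicalKrullDim (CohB1.support F) = ⊥ := by
        unfold topologicalKrullDim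
        haveI : IsEmpty (TopologicalSpace.IrreducibleCloseds (CohB1.support F)) :=
          ⟨fun T => hemp.false T.isIrreducible.nonempty.some⟩
        exact Order.krullDim_eq_bot
      rw [this, WithBot.bot_add]
      exact WithBot.bot_ne_coe
    · rw [hp F ι hι hF hF0]
      intro h
      have : ((d + 1 : ℕ) : WithBot ℕ∞) = ((d : ℕ) : WithBot ℕ∞) := by
        push_cast; exact h
      have h2 : d + 1 = d := by exact_mod_cast this
      omega
  · intro F ι hι hF pF pE hpF hpE hpos hlt
    haveI := hι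
    have hF0 := not_isZero_of_alpha_pos k X hA d hpF hpos
    have hni := not_isIso_of_alpha_lt k X d ι hpF hpE hlt
    have hdF := natDegree_sub_of_isPure k X hA d hp ι hF hpF hF0
    have hdE := natDegree_of_isPure k X hA d hEc h0 hp hpE
    exact hatSlope_le_of_redLE d hd hdF.le hdE.le hpos (hpos.trans hlt)
      (hSS F ι hι hF hF0 hni pF pE hpF hpE)

include hA in
/-- **S15222**: a semistable module is `ℓ`-semistable. -/
theorem isEllSemistable_of_isSemistable (ℓ : ℕ) {E : X.Modules}
    (hE : ShStab.IsSemistable k X L E d) : ShStab.IsEllSemistable k X L E d ℓ := by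
  obtain ⟨hEc, h0, hp, hSS⟩ := hE
  refine ⟨hEc, h0, hp, ?_⟩
  intro F ι hι hF pF pE hpF hpE hpos hlt
  haveI := hι
  have hF0 := not_isZero_of_alpha_pos k X hA d hpF hpos
  have hni := not_isIso_of_alpha_lt k X d ι hpF hpE hlt
  have hdF := natDegree_sub_of_isPure k X hA d hp ι hF hpF hF0
  have hdE := natDegree_of_isPure k X hA d hEc h0 hp hpE
  have hQ := crossDiff_eventually_nonneg d (hSS F ι hι hF hF0 hni pF pE hpF hpE)
  obtain ⟨N, hN⟩ := topPart_eventually_nonneg ℓ d _ (natDegree_crossDiff_le d hdF.le hdE.le) hQ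
  refine ⟨N, fun m hm => ?_⟩
  have := hN m hm
  unfold crossDiff at this
  rw [topPart_sub, topPart_smul, topPart_smul, Polynomial.eval_sub] at this
  rw [alpha_topPart, alpha_topPart]
  linarith

end Groth.Agent.H5.HP
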