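import Mathlib
import Groth.Agent.Lib.Helper5.HP.HP10

/-! # Hilbert polynomials, part 11: Gieseker (semi)stability is `d`-(semi)stability. -/

set_option autoImplicit false
universe u
open CategoryTheory CategoryTheory.Limits AlgebraicGeometry Opposite TopologicalSpace

namespace Groth.Agent.H5.HP

open Groth.Agent.LD Groth.Agent.LD.QC StabCat Groth.Agent.H5.Deg

variable (k : Type u) [Field k] (X : Scheme.{u}) [X.Over (Spec (CommRingCat.of k))]
  [IsProper (X ↘ Spec (CommRingCat.of k))] {L : X.Modules} (hA : CohB1.IsAmple L) (d : ℕ)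

include hA in
/-- Hilbert polynomial of the cokernel of a monomorphism. -/
lemma exists_hilbPoly_cokernel {E F : X.Modules} (hE : Coh.IsCoh E) (hF : Coh.IsCoh F)
    (ι : F ⟶ E) [Mono ι] {pF pE : Polynomial ℚ} (hpF : ShStab.IsHilbPoly k X L F pF)
    (hpE : ShStab.IsHilbPoly k X L E pE) :
    ∃ pC : Polynomial ℚ, ShStab.IsHilbPoly k X L (cokernel ι) pC ∧ pE = pF + pC := by
  have hC := isCoh_cokernel ι hF hE
  obtain ⟨pC, hpC⟩ := exists_isHilbPoly k X L hA _ hC
  exact ⟨pC, hpC, isHilbPoly_unique k X L E hpE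
    (isHilbPoly_add k X L hA.1 (shortExact_coker ι) hF hE hC hpF hpC)⟩

lemma not_isZero_cokernel_of_not_isIso {E F : X.Modules} (ι : F ⟶ E) [Mono ι] (h : ¬ IsIso ι) :
    ¬ IsZero (cokernel ι) := by
  intro hz
  haveI := epi_of_isZero_cokernel ι hz
  exact h (isIso_of_mono_of_epi ι)

include hA in
/-- **S15217**. -/
theorem isSemistable_iff_isEllSemistable_self {E : X.Modules} :
    ShStab.IsSemistable k X L E d ↔ ShStab.IsEllSemistable k X L E d d := by
  constructor
  · exact isEllSemistable_of_isSemistable k X hA d d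
  · rintro ⟨hEc, h0, hp, hEll⟩
    refine ⟨hEc, h0, hp, ?_⟩
    intro F ι hι hF hF0 hni pF pE hpF hpE
    haveI := hι
    have hdim := dim_support_of_isPure X d hEc h0 hp
    obtain ⟨pC, hpC, hsum⟩ := exists_hilbPoly_cokernel k X hA hEc hF ι hpF hpE
    have hC := isCoh_cokernel ι hF hEc
    have hαC := alpha_nonneg_of_support_subset k X hA d hC hEc
      (support_subset_of_epi (cokernel.π ι)) hdim hpC
    have hαF := alpha_pos_of_isPure k X hA d hp ι hF hF0 hpF
    have hαE : alpha d pE = alpha d pF + alpha d pC := by rw [hsum, alpha_add]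
    have hdF := natDegree_sub_of_isPure k X hA d hp ι hF hpF hF0
    have hdE := natDegree_of_isPure k X hA d hEc h0 hp hpE
    rcases lt_or_eq_of_le hαC with hpos | hzero
    · have := hEll F ι hι hF pF pE hpF hpE hαF (by linarith)
      rwa [topPart_eq_self le_rfl hdF.le, topPart_eq_self le_rfl hdE.le] at this
    · obtain ⟨N, hN⟩ := eval_nonneg_eventually k X L hA _ hC hpC
      refine ⟨N, fun m hm => ?_⟩
      rw [Polynomial.eval_smul, Polynomial.eval_smul, smul_eq_mul, smul_eq_mul, hαE, ← hzero,
        add_zero, hsum, Polynomial.eval_add]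
      have := hN m hm
      nlinarith

include hA in
/-- **S15218**. -/
theorem isStable_iff_isEllStable_self {E : X.Modules} :
    ShStab.IsStable k X L E d ↔ ShStab.IsEllStable k X L E d d := by
  constructor
  · rintro ⟨hEc, h0, hp, hSt⟩
    refine ⟨hEc, h0, hp, ?_⟩
    intro F ι hι hF pF pE hpF hpE hpos hlt
    haveI := hι
    have hF0 := not_isZero_of_alpha_pos k X hA d hpF hpos
    have hni := not_isIso_of_alpha_lt k X d ι hpF hpE hlt
    have hdF := natDegree_sub_of_isPure k X hA d hp ι hF hpF hF0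
    have hdE := natDegree_of_isPure k X hA d hEc h0 hp hpE
    rw [topPart_eq_self le_rfl hdF.le, topPart_eq_self le_rfl hdE.le]
    exact hSt F ι hι hF hF0 hni pF pE hpF hpE
  · rintro ⟨hEc, h0, hp, hEll⟩
    refine ⟨hEc, h0, hp, ?_⟩
    intro F ι hι hF hF0 hni pF pE hpF hpE
    haveI := hι
    have hdim := dim_support_of_isPure X d hEc h0 hp
    obtain ⟨pC, hpC, hsum⟩ := exists_hilbPoly_cokernel k X hA hEc hF ι hpF hpE
    have hC := isCoh_cokernel ι hF hEc
    have hαC := alpha_nonneg_of_support_subset k X hA d hC hEc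
      (support_subset_of_epi (cokernel.π ι)) hdim hpC
    have hαF := alpha_pos_of_isPure k X hA d hp ι hF hF0 hpF
    have hαE : alpha d pE = alpha d pF + alpha d pC := by rw [hsum, alpha_add]
    have hdF := natDegree_sub_of_isPure k X hA d hp ι hF hpF hF0
    have hdE := natDegree_of_isPure k X hA d hEc h0 hp hpE
    rcases lt_or_eq_of_le hαC with hpos | hzero
    · have := hEll F ι hι hF pF pE hpF hpE hαF (by linarith)
      rwa [topPart_eq_self le_rfl hdF.le, topPart_eq_self le_rfl hdE.le] at this
    · have hC0 := not_isZero_cokernel_of_not_isIso X ι hni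
      obtain ⟨N, hN⟩ := eventually_pos_of_leadingCoeff_pos pC
        (leadingCoeff_pos k X L hA _ hC hC0 hpC)
      refine ⟨N, fun m hm => ?_⟩
      rw [Polynomial.eval_smul, Polynomial.eval_smul, smul_eq_mul, smul_eq_mul, hαE, ← hzero,
        add_zero, hsum, Polynomial.eval_add]
      have := hN m hm
      nlinarith

end Groth.Agent.H5.HP
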