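import Mathlib
import Groth.Agent.Lib.Helper5.HP.HP11

/-! # Hilbert polynomials, part 12: monotonicity along monomorphisms. -/

set_option autoImplicit false
universe u
open CategoryTheory CategoryTheory.Limits AlgebraicGeometry Opposite TopologicalSpace

namespace Groth.Agent.H5.HP

open Groth.Agent.LD Groth.Agent.LD.QC StabCat Groth.Agent.H5.Deg

variable (k : Type u) [Field k] (X : Scheme.{u}) [X.Over (Spec (CommRingCat.of k))]
  [IsProper (X ↘ Spec (CommRingCat.of k))] {L : X.Modules} (hA : CohB1.IsAmple L) (d : ℕ)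

include hA in
/-- if the support of a coherent module has dimension less than `d`, its multiplicity in dimension
`d` vanishes. -/
theorem alpha_eq_zero_of_dim_lt {C : X.Modules} (hC : Coh.IsCoh C) {pC : Polynomial ℚ}
    (hpC : ShStab.IsHilbPoly k X L C pC)
    (hdim : topologicalKrullDim (CohB1.support C) < (d : WithBot ℕ∞)) : alpha d pC = 0 := by
  by_cases hC0 : IsZero C
  · have : pC = 0 := isHilbPoly_unique k X L _ hpC (isHilbPoly_of_isZero k X L hA.1 hC0)
    rw [this, alpha_zero]
  · apply alpha_eq_zero_of_natDegree_lt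
    have h1 := natDegree_eq_dim k X hA C hC hC0 hpC
    rw [← h1] at hdim
    exact_mod_cast hdim

include hA in
/-- **S16340**. -/
theorem polyLE_and_alpha_eq_of_mono {E E' : X.Modules} (hE : Coh.IsCoh E) (hE' : Coh.IsCoh E')
    (ι : E ⟶ E') [Mono ι] {pE pE' : Polynomial ℚ} (hpE : ShStab.IsHilbPoly k X L E pE)
    (hpE' : ShStab.IsHilbPoly k X L E' pE') :
    StabCat.PolyLE pE pE' ∧
      (topologicalKrullDim (CohB1.support (cokernel ι)) < (d : WithBot ℕ∞) →
        StabCat.alpha d pE = StabCat.alpha d pE') := by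
  obtain ⟨pC, hpC, hsum⟩ := exists_hilbPoly_cokernel k X hA hE' hE ι hpE hpE'
  have hC := isCoh_cokernel ι hE hE'
  constructor
  · obtain ⟨N, hN⟩ := eval_nonneg_eventually k X L hA _ hC hpC
    refine ⟨N, fun m hm => ?_⟩
    rw [hsum, Polynomial.eval_add]
    linarith [hN m hm]
  · intro hdim
    rw [hsum, alpha_add, alpha_eq_zero_of_dim_lt k X hA d hC hpC hdim, add_zero]

end Groth.Agent.H5.HP
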