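import Mathlib
import Groth.Agent.Lib.Helper5.HP.HP12

/-! # Hilbert polynomials, part 13: slope-semistable modules: morphisms. -/

set_option autoImplicit false
universe u
open CategoryTheory CategoryTheory.Limits AlgebraicGeometry Opposite TopologicalSpace

namespace Groth.Agent.H5.HP

open Groth.Agent.LD Groth.Agent.LD.QC StabCat Groth.Agent.H5.Deg

variable (k : Type u) [Field k] (X : Scheme.{u}) [X.Over (Spec (CommRingCat.of k))]
  [IsProper (X ↘ Spec (CommRingCat.of k))] {L : X.Modules} (hA : CohB1.IsAmple L) (n : ℕ)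

include hA in
/-- for a coherent module whose multiplicity in dimension `n` vanishes and whose support has
dimension at most `n`, the next coefficient is non-negative. -/
theorem alpha_pred_nonneg {C E : X.Modules} (hC : Coh.IsCoh C) (hE : Coh.IsCoh E)
    (hsub : CohB1.support C ⊆ CohB1.support E)
    (hdim : topologicalKrullDim (CohB1.support E) = (n : WithBot ℕ∞)) {pC : Polynomial ℚ}
    (hpC : ShStab.IsHilbPoly k X L C pC) (h0 : alpha n pC = 0) : 0 ≤ alpha (n - 1) pC := by
  have hle := natDegree_le_of_support_subset k X hA n hC hE hsub hdim hpC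
  have hc : pC.coeff n = 0 := by
    unfold alpha at h0
    rcases mul_eq_zero.mp h0 with h | h
    · exact absurd h (by positivity)
    · exact h
  have hle' : pC.natDegree ≤ n - 1 := by
    rcases lt_or_eq_of_le hle with h | h
    · omega
    · have : pC.leadingCoeff = 0 := by rw [Polynomial.leadingCoeff, h, hc]
      rw [Polynomial.leadingCoeff_eq_zero] at this
      rw [this]; simp
  have := coeff_nonneg_of_eventually_nonneg pC (n - 1) hle'
    (eval_nonneg_eventually k X L hA C hC hpC)
  unfold alpha
  positivity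

include hA in
/-- for a monomorphism `I ⟶ G` of coherent modules with `dim Supp G = n`: the multiplicity of `I`
is at most that of `G`, and in case of equality the same holds for the next coefficient. -/
theorem alpha_le_of_mono {G I : X.Modules} (hG : Coh.IsCoh G) (hI : Coh.IsCoh I) (ι : I ⟶ G)
    [Mono ι] (hdim : topologicalKrullDim (CohB1.support G) = (n : WithBot ℕ∞))
    {pI pG : Polynomial ℚ} (hpI : ShStab.IsHilbPoly k X L I pI)
    (hpG : ShStab.IsHilbPoly k X L G pG) :
    alpha n pI ≤ alpha n pG ∧ (alpha n pI = alpha n pG → alpha (n - 1) pI ≤ alpha (n - 1) pG) := by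
  obtain ⟨pC, hpC, hsum⟩ := exists_hilbPoly_cokernel k X hA hG hI ι hpI hpG
  have hC := isCoh_cokernel ι hI hG
  have hsub : CohB1.support (cokernel ι) ⊆ CohB1.support G := support_subset_of_epi (cokernel.π ι)
  have h1 := alpha_nonneg_of_support_subset k X hA n hC hG hsub hdim hpC
  constructor
  · rw [hsum, alpha_add]; linarith
  · intro heq
    rw [hsum, alpha_add] at heq
    have h0 : alpha n pC = 0 := by linarith
    have h2 := alpha_pred_nonneg k X hA n hC hG hsub hdim hpC h0
    rw [hsum, alpha_add]; linarith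

/-- numeric: weighted average. -/
lemma hatSlope_ge_of_sum {n : ℕ} {pF pK pI : Polynomial ℚ} (hsum : pF = pK + pI)
    (hK : 0 < alpha n pK) (hI : 0 < alpha n pI) (h : hatSlope n pK ≤ hatSlope n pF) :
    hatSlope n pF ≤ hatSlope n pI := by
  unfold hatSlope at *
  rw [hsum, alpha_add, alpha_add] at *
  set a := alpha n pK
  set b := alpha n pI
  set x := alpha (n - 1) pK
  set y := alpha (n - 1) pI
  have hab : 0 < a + b := by linarith
  rw [div_le_div_iff₀ hK hab] at h
  rw [div_le_div_iff₀ hab hI]
  nlinarith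

include hA in
/-- the slope of a nonzero coherent submodule `I` of a slope-semistable module `G` (of pure
dimension `n`) is at most the slope of `G`. -/
theorem hatSlope_le_of_mono_of_isMuSemistable {G I : X.Modules} (hGt : ShStab.IsPure X G n)
    (hG : ShStab.IsMuSemistable k X L G n) (hI : Coh.IsCoh I) (hI0 : ¬ IsZero I) (ι : I ⟶ G)
    [Mono ι] {pI pG : Polynomial ℚ} (hpI : ShStab.IsHilbPoly k X L I pI)
    (hpG : ShStab.IsHilbPoly k X L G pG) : hatSlope n pI ≤ hatSlope n pG := by
  have hpos := alpha_pos_of_isPure k X hA n hGt ι hI hI0 hpI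
  obtain ⟨h1, h2⟩ := alpha_le_of_mono k X hA n hG.1 hI ι hG.2.2.1 hpI hpG
  rcases lt_or_eq_of_le h1 with h | h
  · exact hG.2.2.2.2 I ι inferInstance hI pI pG hpI hpG hpos h
  · have h3 := h2 h
    unfold hatSlope
    rw [← h]
    exact div_le_div_of_nonneg_right h3 hpos.le

include hA in
/-- **S18965**: no nonzero morphisms from a slope-semistable module to a slope-semistable module
of strictly smaller slope. -/
theorem hom_eq_zero_of_hatSlope_lt {F G : X.Modules} (hFt : ShStab.IsPure X F n)
    (hGt : ShStab.IsPure X G n) (hF : ShStab.IsMuSemistable k X L F n)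
    (hG : ShStab.IsMuSemistable k X L G n) {pF pG : Polynomial ℚ}
    (hpF : ShStab.IsHilbPoly k X L F pF) (hpG : ShStab.IsHilbPoly k X L G pG)
    (hlt : hatSlope n pG < hatSlope n pF) (φ : F ⟶ G) : φ = 0 := by
  by_contra hφ
  have hK := isCoh_kernel' k X (φ := φ) hF.1 hG.1
  have hI := isCoh_coimage k X (φ := φ) hF.1 hG.1
  obtain ⟨pK, hpK⟩ := exists_isHilbPoly k X L hA _ hK
  obtain ⟨pI, hpI⟩ := exists_isHilbPoly k X L hA _ hI
  have hsum := hilbPoly_kerCoim k X L hA hF.1 hG.1 φ hpF hpK hpI
  have hI0 := not_isZero_coimage φ hφ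
  haveI : Mono (Abelian.factorThruCoimage φ) := inferInstance
  have hIG := hatSlope_le_of_mono_of_isMuSemistable k X hA n hGt hG hI hI0
    (Abelian.factorThruCoimage φ) hpI hpG
  have hIpos := alpha_pos_of_isPure k X hA n hGt (Abelian.factorThruCoimage φ) hI hI0 hpI
  by_cases hK0 : IsZero (kernel φ)
  · have : pK = 0 := isHilbPoly_unique k X L _ hpK (isHilbPoly_of_isZero k X L hA.1 hK0)
    rw [this, zero_add] at hsum
    rw [hsum] at hlt
    exact absurd hIG (not_le.mpr hlt)
  · have hKF := hatSlope_le_of_mono_of_isMuSemistable k X hA n hFt hF hK hK0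
      (kernel.ι φ) hpK hpF
    have hKpos := alpha_pos_of_isPure k X hA n hFt (kernel.ι φ) hK hK0 hpK
    have := hatSlope_ge_of_sum hsum hKpos hIpos hKF
    exact absurd (this.trans hIG) (not_le.mpr hlt)

end Groth.Agent.H5.HP
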