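import Mathlib
import Groth.Agent.Lib.Helper5.HP.HP13
import Groth.Agent.Lib.Lead.QC.Ext
import Groth.Agent.Lib.Lead.QC.Coh

/-! # Hilbert polynomials, part 14: extensions of slope-semistable modules. -/

set_option autoImplicit false
universe u
open CategoryTheory CategoryTheory.Limits AlgebraicGeometry Opposite TopologicalSpace

namespace Groth.Agent.H5.HP

open Groth.Agent.LD Groth.Agent.LD.QC StabCat Groth.Agent.H5.Deg

section Coh
variable {X : Scheme.{u}}

/-- an extension of coherent modules is coherent. -/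
theorem isCoh_of_shortExact (S : ShortComplex X.Modules) (hS : S.ShortExact)
    (h1 : Coh.IsCoh S.X₁) (h3 : Coh.IsCoh S.X₃) : Coh.IsCoh S.X₂ := by
  have hqc := qc_of_shortExact S hS h1.1 h3.1
  refine ⟨hqc, ?_⟩
  haveI := hqc
  haveI := h1.1
  haveI := h3.1
  haveI := hS.epi_g
  rw [isFiniteType_iff_finite_sections]
  intro U hU
  haveI f1 := finite_sections_of_isFiniteType S.X₁ h1.2 hU
  haveI f3 := finite_sections_of_isFiniteType S.X₃ h3.2 hU
  refine Module.Finite.of_exact (f := appLinear S.f U) (g := appLinear S.g U) ?_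
    (epi_app_affine hqc h3.1 S.g hU)
  intro s
  constructor
  · intro hs
    obtain ⟨t, ht⟩ := exact_sections S hS U s hs
    exact ⟨t, ht⟩
  · rintro ⟨t, rfl⟩
    change (S.g.app U) ((S.f.app U) t) = 0
    have : (S.f ≫ S.g).app U t = 0 := by rw [S.zero]; rfl
    exact this

end Coh

variable (k : Type u) [Field k] (X : Scheme.{u}) [X.Over (Spec (CommRingCat.of k))]
  [IsProper (X ↘ Spec (CommRingCat.of k))] {L : X.Modules} (hA : CohB1.IsAmple L) (n : ℕ)

lemma dimX_empty {X : Scheme.{u}} : dimX (∅ : Set X) = ⊥ := by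
  unfold dimX
  rw [Order.krullDim_eq_bot_iff]
  refine ⟨fun ⟨T, hT⟩ => ?_⟩
  obtain ⟨x, hx⟩ := T.isIrreducible.nonempty
  exact hT hx

section Ext

variable {T : ShortComplex X.Modules} (hT : T.ShortExact)

/-- data attached to a subobject of the middle term of a short exact sequence: its kernel part
embeds in the left term. -/
lemma exists_kernel_lift {F' : X.Modules} (ι : F' ⟶ T.X₂) [Mono ι] (hT : T.ShortExact) :
    ∃ κ : kernel (ι ≫ T.g) ⟶ T.X₁, Mono κ ∧ κ ≫ T.f = kernel.ι (ι ≫ T.g) ≫ ι := by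
  haveI := hT.mono_f
  have hz : (kernel.ι (ι ≫ T.g) ≫ ι) ≫ T.g = 0 := by
    rw [Category.assoc, kernel.condition]
  refine ⟨hT.exact.lift _ hz, ?_, hT.exact.lift_f _ hz⟩
  have : Mono (hT.exact.lift _ hz ≫ T.f) := by
    rw [hT.exact.lift_f _ hz]; infer_instance
  exact mono_of_mono _ T.f

include k hT in
/-- an extension of pure modules of dimension `n` is pure of dimension `n`. -/
theorem isPure_of_shortExact (h1 : Coh.IsCoh T.X₁) (h3 : Coh.IsCoh T.X₃)
    (hp1 : ShStab.IsPure X T.X₁ n) (hp3 : ShStab.IsPure X T.X₃ n) :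
    ShStab.IsPure X T.X₂ n := by
  haveI := hT.mono_f
  haveI := hT.epi_g
  have h2 := isCoh_of_shortExact T hT h1 h3
  haveI : IsLocallyNoetherian X := Curve.isLocallyNoetherian k X
  -- the support of the middle term has dimension `≤ n`
  have hsup := support_of_shortExact hT
  have hdim2 : dimX (CohB1.support T.X₂) ≤ (n : WithBot ℕ∞) := by
    rw [hsup, dimX_union (isClosed_support_of_isCoh h1) (isClosed_support_of_isCoh h3)]
    apply max_le
    · by_cases z : IsZero T.X₁
      · rw [support_eq_empty_of_isZero z, dimX_empty]; exact bot_le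
      · rw [← topologicalKrullDim_eq_dimX (isClosed_support_of_isCoh h1)]
        exact (hp1 T.X₁ (𝟙 _) inferInstance h1 z).le
    · by_cases z : IsZero T.X₃
      · rw [support_eq_empty_of_isZero z, dimX_empty]; exact bot_le
      · rw [← topologicalKrullDim_eq_dimX (isClosed_support_of_isCoh h3)]
        exact (hp3 T.X₃ (𝟙 _) inferInstance h3 z).le
  intro F' ι hι hF' hF'0
  haveI := hι
  apply le_antisymm
  · rw [topologicalKrullDim_eq_dimX (isClosed_support_of_isCoh hF')]
    exact (dimX_mono (support_subset_of_mono ι)).trans hdim2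
  · obtain ⟨κ, hκm, hκ⟩ := exists_kernel_lift X ι hT
    haveI := hκm
    have hK : Coh.IsCoh (kernel (ι ≫ T.g)) := isCoh_kernel _ hF' h3
    by_cases hK0 : IsZero (kernel (ι ≫ T.g))
    · haveI : Mono (ι ≫ T.g) := mono_of_isZero_kernel _ hK0
      exact (hp3 F' (ι ≫ T.g) inferInstance hF' hF'0).ge
    · have := hp1 _ κ hκm hK hK0
      rw [← this, topologicalKrullDim_eq_dimX (isClosed_support_of_isCoh hK),
        topologicalKrullDim_eq_dimX (isClosed_support_of_isCoh hF')]
      exact dimX_mono (support_subset_of_mono (kernel.ι (ι ≫ T.g)))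

/-- numeric: the slope of a sum of two polynomials of equal slope. -/
lemma hatSlope_add_of_eq {n : ℕ} {pF pG : Polynomial ℚ} (hF : 0 < alpha n pF)
    (hG : 0 < alpha n pG) (h : hatSlope n pF = hatSlope n pG) :
    hatSlope n (pF + pG) = hatSlope n pF := by
  unfold hatSlope at *
  rw [alpha_add, alpha_add]
  set a := alpha n pF
  set b := alpha n pG
  set x := alpha (n - 1) pF
  set y := alpha (n - 1) pG
  have hab : 0 < a + b := by linarith
  rw [div_eq_div_iff hF.ne' hG.ne'] at h
  rw [div_eq_div_iff hab.ne' hF.ne']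
  nlinarith

/-- numeric: the slope of a sum is at most a common bound of the slopes. -/
lemma hatSlope_add_le {n : ℕ} {pK pI : Polynomial ℚ} {μ : ℚ} (hK : 0 < alpha n pK)
    (hI : 0 < alpha n pI) (h1 : hatSlope n pK ≤ μ) (h2 : hatSlope n pI ≤ μ) :
    hatSlope n (pK + pI) ≤ μ := by
  unfold hatSlope at *
  rw [alpha_add, alpha_add]
  set a := alpha n pK
  set b := alpha n pI
  set x := alpha (n - 1) pK
  set y := alpha (n - 1) pI
  have hab : 0 < a + b := by linarith
  rw [div_le_iff₀ hK] at h1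
  rw [div_le_iff₀ hI] at h2
  rw [div_le_iff₀ hab]
  nlinarith

include hA hT in
/-- **S18967**: an extension of slope-semistable pure modules of the same slope is slope-semistable
of that slope. -/
theorem isMuSemistable_of_shortExact (hFt : ShStab.IsPure X T.X₁ n)
    (hGt : ShStab.IsPure X T.X₃ n) (hF : ShStab.IsMuSemistable k X L T.X₁ n)
    (hG : ShStab.IsMuSemistable k X L T.X₃ n) {pF pG : Polynomial ℚ}
    (hpF : ShStab.IsHilbPoly k X L T.X₁ pF) (hpG : ShStab.IsHilbPoly k X L T.X₃ pG)
    (hμ : hatSlope n pF = hatSlope n pG) :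
    ShStab.IsMuSemistable k X L T.X₂ n ∧
      ∀ pH : Polynomial ℚ, ShStab.IsHilbPoly k X L T.X₂ pH → hatSlope n pH = hatSlope n pF := by
  haveI := hT.mono_f
  haveI := hT.epi_g
  have h1 := hF.1
  have h3 := hG.1
  have h2 := isCoh_of_shortExact T hT h1 h3
  have hpure := isPure_of_shortExact k X n hT h1 h3 hFt hGt
  have h20 : ¬ IsZero T.X₂ := fun hz => hF.2.1 (IsZero.of_mono T.f hz)
  have hpH := isHilbPoly_add k X L hA.1 hT h1 h2 h3 hpF hpG
  have haF := alpha_pos k X hA T.X₁ h1 hF.2.1 hpF n hF.2.2.1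
  have haG := alpha_pos k X hA T.X₃ h3 hG.2.1 hpG n hG.2.2.1
  have hslope : ∀ pH : Polynomial ℚ, ShStab.IsHilbPoly k X L T.X₂ pH →
      hatSlope n pH = hatSlope n pF := by
    intro pH h
    rw [isHilbPoly_unique k X L _ h hpH]
    exact hatSlope_add_of_eq haF haG hμ
  refine ⟨⟨h2, h20, hpure T.X₂ (𝟙 _) inferInstance h2 h20, ?_, ?_⟩, hslope⟩
  · intro F' ι hι hF'
    by_cases z : IsZero F'
    · rw [support_eq_empty_of_isZero z]
      have : topologicalKrullDim (∅ : Set X) = ⊥ := by
        rw [topologicalKrullDim_eq_dimX isClosed_empty, dimX_empty]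
      rw [this]
      intro h
      exact absurd h (by simp)
    · rw [hpure F' ι hι hF' z]
      intro h
      have : ((n + 1 : ℕ) : WithBot ℕ∞) = (n : ℕ) := by exact_mod_cast h
      have : n + 1 = n := by exact_mod_cast this
      omega
  · intro F' ι hι hF' pF' pH hpF' hpH' hpos hlt
    haveI := hι
    rw [hslope pH hpH']
    have hF'0 := not_isZero_of_alpha_pos k X hA n hpF' hpos
    obtain ⟨κ, hκm, hκ⟩ := exists_kernel_lift X ι hT
    haveI := hκm
    have hK : Coh.IsCoh (kernel (ι ≫ T.g)) := isCoh_kernel' k X (φ := ι ≫ T.g) hF' h3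
    have hI : Coh.IsCoh (Abelian.coimage (ι ≫ T.g)) := isCoh_coimage k X (φ := ι ≫ T.g) hF' h3
    obtain ⟨pK, hpK⟩ := exists_isHilbPoly k X L hA _ hK
    obtain ⟨pI, hpI⟩ := exists_isHilbPoly k X L hA _ hI
    have hsum := hilbPoly_kerCoim k X L hA hF' h3 (ι ≫ T.g) hpF' hpK hpI
    by_cases hK0 : IsZero (kernel (ι ≫ T.g))
    · have : pK = 0 := isHilbPoly_unique k X L _ hpK (isHilbPoly_of_isZero k X L hA.1 hK0)
      rw [this, zero_add] at hsum
      have hI0 : ¬ IsZero (Abelian.coimage (ι ≫ T.g)) := by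
        intro hz
        have : pI = 0 := isHilbPoly_unique k X L _ hpI (isHilbPoly_of_isZero k X L hA.1 hz)
        rw [hsum, this, alpha_zero] at hpos
        exact lt_irrefl _ hpos
      rw [hsum, hμ]
      exact hatSlope_le_of_mono_of_isMuSemistable k X hA n hGt hG hI hI0
        (Abelian.factorThruCoimage (ι ≫ T.g)) hpI hpG
    · have hKF := hatSlope_le_of_mono_of_isMuSemistable k X hA n hFt hF hK hK0 κ hpK hpF
      have hKpos := alpha_pos_of_isPure k X hA n hFt κ hK hK0 hpK
      by_cases hI0 : IsZero (Abelian.coimage (ι ≫ T.g))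
      · have : pI = 0 := isHilbPoly_unique k X L _ hpI (isHilbPoly_of_isZero k X L hA.1 hI0)
        rw [this, add_zero] at hsum
        rw [hsum]; exact hKF
      · have hIG := hatSlope_le_of_mono_of_isMuSemistable k X hA n hGt hG hI hI0
          (Abelian.factorThruCoimage (ι ≫ T.g)) hpI hpG
        have hIpos := alpha_pos_of_isPure k X hA n hGt (Abelian.factorThruCoimage (ι ≫ T.g))
          hI hI0 hpI
        rw [hsum]
        exact hatSlope_add_le hKpos hIpos hKF (hμ ▸ hIG)

end Ext

end Groth.Agent.H5.HP
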