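import Mathlib
import Groth.Agent.Lib.Helper5.HP.HP14
import Groth.Agent.Lib.Helper5.Curve4.VB4
import Groth.Agent.Lib.Lead.QC.ACC
import Groth.Agent.Lib.Lead.Misc.SerreInd

/-! # Hilbert polynomials, part 15: the saturation of a coherent submodule. -/

set_option autoImplicit false
universe u
open CategoryTheory CategoryTheory.Limits AlgebraicGeometry Opposite TopologicalSpace

namespace Groth.Agent.H5.HP

open Groth.Agent.LD Groth.Agent.LD.QC StabCat Groth.Agent.H5.Deg

variable (k : Type u) [Field k] (X : Scheme.{u}) [X.Over (Spec (CommRingCat.of k))]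
  [IsProper (X ↘ Spec (CommRingCat.of k))] {L : X.Modules} (hA : CohB1.IsAmple L) (d : ℕ)

include hA in
/-- **saturation**: a coherent submodule `F` of a coherent module `E` with support of dimension
`d` is contained in a coherent submodule `F'` with the same multiplicity such that `E / F'` is pure
of dimension `d` (or zero). -/
theorem exists_saturation {E F : X.Modules} (hE : Coh.IsCoh E) (hF : Coh.IsCoh F) (ι : F ⟶ E)
    [Mono ι] (hdimE : topologicalKrullDim (CohB1.support E) = (d : WithBot ℕ∞))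
    {pF : Polynomial ℚ} (hpF : ShStab.IsHilbPoly k X L F pF) :
    ∃ (F' : X.Modules) (ι' : F' ⟶ E) (φ : F ⟶ F') (pF' : Polynomial ℚ), Mono ι' ∧ φ ≫ ι' = ι ∧
      Coh.IsCoh F' ∧ ShStab.IsHilbPoly k X L F' pF' ∧ alpha d pF' = alpha d pF ∧
      PolyLE pF pF' ∧ ShStab.IsPure X (cokernel ι') d := by
  haveI : IsLocallyNoetherian X := Curve.isLocallyNoetherian k X
  haveI : IsNoetherian X := Curve2.isNoetherian_of_proper k X
  let S : Set (Subobject E) := {K | Coh.IsCoh (K : X.Modules) ∧ Subobject.mk ι ≤ K ∧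
    ∀ pK : Polynomial ℚ, ShStab.IsHilbPoly k X L (K : X.Modules) pK → alpha d pK = alpha d pF}
  have hmem : Subobject.mk ι ∈ S := by
    refine ⟨isCoh_of_iso (Subobject.underlyingIso ι).symm hF, le_rfl, fun pK hpK => ?_⟩
    rw [isHilbPoly_unique k X L _ hpK (isHilbPoly_of_iso k X L (Subobject.underlyingIso ι).symm hpF)]
  obtain ⟨K, ⟨hKc, hKle, hKα⟩, hKmax⟩ := Misc.exists_maximal_of_acc S ⟨_, hmem⟩
    (fun f hf => acc_qc_subobjects E hE.1 hE.2 f (fun n => (hf n).1.1))
  obtain ⟨pK, hpK⟩ := exists_isHilbPoly k X L hA _ hKc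
  have hφ : Subobject.ofMkLE ι K hKle ≫ K.arrow = ι := Subobject.ofMkLE_arrow hKle
  haveI : Mono (Subobject.ofMkLE ι K hKle) := mono_of_mono_fac hφ
  refine ⟨(K : X.Modules), K.arrow, Subobject.ofMkLE ι K hKle, pK, inferInstance, hφ, hKc, hpK,
    hKα pK hpK, (polyLE_and_alpha_eq_of_mono k X hA d hF hKc (Subobject.ofMkLE ι K hKle)
      hpF hpK).1, ?_⟩
  -- purity of the quotient
  let π : E ⟶ cokernel K.arrow := cokernel.π K.arrow
  have hQc : Coh.IsCoh (cokernel K.arrow) := isCoh_cokernel K.arrow hKc hE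
  intro N j hj hN hN0
  haveI := hj
  by_contra hne
  have hsub : CohB1.support N ⊆ CohB1.support E :=
    (support_subset_of_mono j).trans (support_subset_of_epi π)
  have hle : topologicalKrullDim (CohB1.support N) ≤ (d : WithBot ℕ∞) := by
    rw [← hdimE, topologicalKrullDim_eq_dimX (isClosed_support_of_isCoh hN),
      topologicalKrullDim_eq_dimX (isClosed_support_of_isCoh hE)]
    exact dimX_mono hsub
  have hlt : topologicalKrullDim (CohB1.support N) < (d : WithBot ℕ∞) := lt_of_le_of_ne hle hne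
  obtain ⟨pN, hpN⟩ := exists_isHilbPoly k X L hA _ hN
  have hαN := alpha_eq_zero_of_dim_lt k X hA d hN hpN hlt
  let S₀ : ShortComplex X.Modules := ShortComplex.mk K.arrow π (cokernel.condition K.arrow)
  have hS₀ : S₀.ShortExact :=
    { exact := ShortComplex.exact_cokernel K.arrow
      mono_f := inferInstanceAs (Mono K.arrow)
      epi_g := inferInstanceAs (Epi (cokernel.π K.arrow)) }
  have hS' := Curve4.preimage_shortExact S₀ hS₀ j
  have hPc : Coh.IsCoh (pullback π j) := isCoh_of_shortExact _ hS' hKc hN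
  have hpP := isHilbPoly_add k X L hA.1 hS' hKc hPc hN hpK hpN
  let K₂ : Subobject E := Subobject.mk (pullback.fst π j)
  have hKK₂ : K ≤ K₂ := Subobject.le_mk_of_comm
    (pullback.lift K.arrow (0 : (K : X.Modules) ⟶ N) (by rw [zero_comp]; exact cokernel.condition K.arrow))
    (pullback.lift_fst _ _ _)
  have hK₂S : K₂ ∈ S := by
    refine ⟨isCoh_of_iso (Subobject.underlyingIso (pullback.fst π j)).symm hPc,
      hKle.trans hKK₂, fun p hp => ?_⟩
    rw [isHilbPoly_unique k X L _ hp
      (isHilbPoly_of_iso k X L (Subobject.underlyingIso (pullback.fst π j)).symm hpP),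
      alpha_add, hαN, add_zero]
    exact hKα pK hpK
  have hEq : K₂ = K := hKmax K₂ hK₂S hKK₂
  apply hN0
  have hfac₂ : K₂.Factors (pullback.fst π j) := Subobject.mk_factors_self (pullback.fst π j)
  have hfacK : K.Factors (pullback.fst π j) :=
    Subobject.factors_of_le _ (le_of_eq hEq) hfac₂
  have hcond : K.arrow ≫ π = 0 := cokernel.condition K.arrow
  have h1 : pullback.fst π j ≫ π = 0 := by
    have e := Subobject.factorThru_arrow K _ hfacK
    calc pullback.fst π j ≫ π = (K.factorThru _ hfacK ≫ K.arrow) ≫ π := by rw [e]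
      _ = 0 := by rw [Category.assoc, hcond, comp_zero]
  have h2 : pullback.snd π j ≫ j = 0 := by rw [← pullback.condition, h1]
  haveI : Epi (pullback.snd π j) := Abelian.epi_pullback_of_epi_f π j
  have h3 : j = 0 := by
    rw [← cancel_epi (pullback.snd π j), h2, comp_zero]
  have h4 : 𝟙 N = 0 := by
    rw [← cancel_mono j, h3, comp_zero, comp_zero]
  exact (IsZero.iff_id_eq_zero N).mpr h4

end Groth.Agent.H5.HP
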