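import Mathlib
import Groth.Agent.Lib.Helper5.HP.HP15

/-! # Hilbert polynomials, part 16: (semi)stability via saturated submodules and quotients. -/

set_option autoImplicit false
universe u
open CategoryTheory CategoryTheory.Limits AlgebraicGeometry Opposite TopologicalSpace

namespace Groth.Agent.H5.HP

open Groth.Agent.LD Groth.Agent.LD.QC StabCat Groth.Agent.H5.Deg

section Numeric

variable {d : ℕ} {P P₁ P₂ : Polynomial ℚ}

lemma redLE_sub_iff_quot (h : P = P₁ + P₂) : RedLE d P₁ P ↔ RedLE d P P₂ := by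
  unfold RedLE PolyLE
  have key : ∀ m : ℕ, ((alpha d P • P₁).eval (m : ℚ) ≤ (alpha d P₁ • P).eval (m : ℚ)) ↔
      ((alpha d P₂ • P).eval (m : ℚ) ≤ (alpha d P • P₂).eval (m : ℚ)) := by
    intro m
    simp only [Polynomial.eval_smul, smul_eq_mul]
    rw [h, alpha_add, Polynomial.eval_add]
    constructor <;> intro h' <;> nlinarith
  constructor
  · rintro ⟨N, hN⟩; exact ⟨N, fun m hm => (key m).1 (hN m hm)⟩
  · rintro ⟨N, hN⟩; exact ⟨N, fun m hm => (key m).2 (hN m hm)⟩

lemma redLT_sub_iff_quot (h : P = P₁ + P₂) : RedLT d P₁ P ↔ RedLT d P P₂ := by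
  unfold RedLT PolyLT
  have key : ∀ m : ℕ, ((alpha d P • P₁).eval (m : ℚ) < (alpha d P₁ • P).eval (m : ℚ)) ↔
      ((alpha d P₂ • P).eval (m : ℚ) < (alpha d P • P₂).eval (m : ℚ)) := by
    intro m
    simp only [Polynomial.eval_smul, smul_eq_mul]
    rw [h, alpha_add, Polynomial.eval_add]
    constructor <;> intro h' <;> nlinarith
  constructor
  · rintro ⟨N, hN⟩; exact ⟨N, fun m hm => (key m).1 (hN m hm)⟩
  · rintro ⟨N, hN⟩; exact ⟨N, fun m hm => (key m).2 (hN m hm)⟩

/-- passing to a smaller polynomial with the same multiplicity. -/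
lemma redLE_of_polyLE {pF pF' pE : Polynomial ℚ} (hα : alpha d pF' = alpha d pF)
    (hle : PolyLE pF pF') (haE : 0 ≤ alpha d pE) (h : RedLE d pF' pE) : RedLE d pF pE := by
  obtain ⟨N₁, h1⟩ := hle
  obtain ⟨N₂, h2⟩ := h
  refine ⟨max N₁ N₂, fun m hm => ?_⟩
  have a1 := h1 m ((le_max_left _ _).trans hm)
  have a2 := h2 m ((le_max_right _ _).trans hm)
  simp only [Polynomial.eval_smul, smul_eq_mul] at a2 ⊢
  rw [hα] at a2
  nlinarith

lemma redLT_of_polyLE {pF pF' pE : Polynomial ℚ} (hα : alpha d pF' = alpha d pF)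
    (hle : PolyLE pF pF') (haE : 0 ≤ alpha d pE) (h : RedLT d pF' pE) : RedLT d pF pE := by
  obtain ⟨N₁, h1⟩ := hle
  obtain ⟨N₂, h2⟩ := h
  refine ⟨max N₁ N₂, fun m hm => ?_⟩
  have a1 := h1 m ((le_max_left _ _).trans hm)
  have a2 := h2 m ((le_max_right _ _).trans hm)
  simp only [Polynomial.eval_smul, smul_eq_mul] at a2 ⊢
  rw [hα] at a2
  nlinarith

end Numeric

variable (k : Type u) [Field k] (X : Scheme.{u}) [X.Over (Spec (CommRingCat.of k))]
  [IsProper (X ↘ Spec (CommRingCat.of k))] {L : X.Modules} (hA : CohB1.IsAmple L) (d : ℕ)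

include hA in
/-- data of a proper quotient with positive multiplicity: its kernel is a proper nonzero coherent
submodule and Hilbert polynomials add. -/
lemma kernel_facts {E G : X.Modules} (hE : Coh.IsCoh E) (hG : Coh.IsCoh G) (π : E ⟶ G) [Epi π]
    (hni : ¬ IsIso π) {pE pG : Polynomial ℚ} (hpE : ShStab.IsHilbPoly k X L E pE)
    (hpG : ShStab.IsHilbPoly k X L G pG) (hpos : 0 < alpha d pG) :
    Coh.IsCoh (kernel π) ∧ ¬ IsZero (kernel π) ∧ ¬ IsIso (kernel.ι π) ∧
      ∃ pK : Polynomial ℚ, ShStab.IsHilbPoly k X L (kernel π) pK ∧ pE = pK + pG := by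
  have hK := isCoh_kernel' k X (φ := π) hE hG
  obtain ⟨pK, hpK⟩ := exists_isHilbPoly k X L hA _ hK
  refine ⟨hK, ?_, ?_, pK, hpK, ?_⟩
  · intro z
    haveI : Mono π := mono_of_isZero_kernel π z
    exact hni (isIso_of_mono_of_epi π)
  · intro h
    have h0 : π = 0 := by
      rw [← cancel_epi (kernel.ι π), kernel.condition, comp_zero]
    have hz : IsZero G := IsZero.of_epi_eq_zero π h0
    have : pG = 0 := isHilbPoly_unique k X L _ hpG (isHilbPoly_of_isZero k X L hA.1 hz)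
    rw [this, alpha_zero] at hpos
    exact lt_irrefl _ hpos
  · exact isHilbPoly_unique k X L _ hpE
      (isHilbPoly_add k X L hA.1 (shortExact_ker π) hK hE hG hpK hpG)

include hA in
/-- data of a proper nonzero submodule: its cokernel is a proper nonzero coherent quotient and
Hilbert polynomials add. -/
lemma cokernel_facts {E F : X.Modules} (hE : Coh.IsCoh E) (hF : Coh.IsCoh F) (ι : F ⟶ E) [Mono ι]
    (hF0 : ¬ IsZero F) (hni : ¬ IsIso ι) {pF pE : Polynomial ℚ}
    (hpF : ShStab.IsHilbPoly k X L F pF) (hpE : ShStab.IsHilbPoly k X L E pE) :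
    Coh.IsCoh (cokernel ι) ∧ ¬ IsZero (cokernel ι) ∧ ¬ IsIso (cokernel.π ι) ∧
      ∃ pG : Polynomial ℚ, ShStab.IsHilbPoly k X L (cokernel ι) pG ∧ pE = pF + pG := by
  obtain ⟨pG, hpG, hsum⟩ := exists_hilbPoly_cokernel k X hA hE hF ι hpF hpE
  refine ⟨isCoh_cokernel ι hF hE, not_isZero_cokernel_of_not_isIso X ι hni, ?_, pG, hpG, hsum⟩
  intro h
  have h0 : ι = 0 := by
    rw [← cancel_mono (cokernel.π ι), cokernel.condition, zero_comp]
  exact hF0 (IsZero.of_mono_eq_zero ι h0)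

section SS

variable {E : X.Modules} (hE : Coh.IsCoh E) (h0 : ¬ IsZero E) (hp : ShStab.IsPure X E d)

include hA hE in
theorem ss_one_three (h : StabCat.IsSS Coh.IsCoh (ShStab.IsHilbPoly k X L) d E) :
    ∀ (G : X.Modules) (π : E ⟶ G), Epi π → Coh.IsCoh G → ¬ IsIso π →
      ∀ (pE pG : Polynomial ℚ), ShStab.IsHilbPoly k X L E pE → ShStab.IsHilbPoly k X L G pG →
        0 < StabCat.alpha d pG → StabCat.RedLE d pE pG := by
  intro G π hπ hG hni pE pG hpE hpG hpos
  haveI := hπ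
  obtain ⟨hK, hK0, hKni, pK, hpK, hsum⟩ := kernel_facts k X hA d hE hG π hni hpE hpG hpos
  exact (redLE_sub_iff_quot hsum).1 (h _ (kernel.ι π) inferInstance hK hK0 hKni pK pE hpK hpE)

include hA in
theorem ss_three_four
    (h : ∀ (G : X.Modules) (π : E ⟶ G), Epi π → Coh.IsCoh G → ¬ IsIso π →
      ∀ (pE pG : Polynomial ℚ), ShStab.IsHilbPoly k X L E pE → ShStab.IsHilbPoly k X L G pG →
        0 < StabCat.alpha d pG → StabCat.RedLE d pE pG) :
    ∀ (G : X.Modules) (π : E ⟶ G), Epi π → Coh.IsCoh G → ¬ IsZero G → ¬ IsIso π →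
      ShStab.IsPure X G d →
      ∀ (pE pG : Polynomial ℚ), ShStab.IsHilbPoly k X L E pE → ShStab.IsHilbPoly k X L G pG →
        StabCat.RedLE d pE pG := by
  intro G π hπ hG hG0 hni hGp pE pG hpE hpG
  exact h G π hπ hG hni pE pG hpE hpG (alpha_pos_of_isPure k X hA d hGp (𝟙 G) hG hG0 hpG)

include hA hE in
theorem ss_four_two
    (h : ∀ (G : X.Modules) (π : E ⟶ G), Epi π → Coh.IsCoh G → ¬ IsZero G → ¬ IsIso π →
      ShStab.IsPure X G d →
      ∀ (pE pG : Polynomial ℚ), ShStab.IsHilbPoly k X L E pE → ShStab.IsHilbPoly k X L G pG →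
        StabCat.RedLE d pE pG) :
    ∀ (F : X.Modules) (ι : F ⟶ E), Mono ι → Coh.IsCoh F → ¬ IsZero F → ¬ IsIso ι →
      ShStab.IsPure X (cokernel ι) d →
      ∀ (pF pE : Polynomial ℚ), ShStab.IsHilbPoly k X L F pF → ShStab.IsHilbPoly k X L E pE →
        StabCat.RedLE d pF pE := by
  intro F ι hι hF hF0 hni hpure pF pE hpF hpE
  haveI := hι
  obtain ⟨hG, hG0, hGni, pG, hpG, hsum⟩ := cokernel_facts k X hA hE hF ι hF0 hni hpF hpE
  exact (redLE_sub_iff_quot hsum).2
    (h _ (cokernel.π ι) inferInstance hG hG0 hGni hpure pE pG hpE hpG)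

include hA hE h0 hp in
theorem ss_two_one
    (h : ∀ (F : X.Modules) (ι : F ⟶ E), Mono ι → Coh.IsCoh F → ¬ IsZero F → ¬ IsIso ι →
      ShStab.IsPure X (cokernel ι) d →
      ∀ (pF pE : Polynomial ℚ), ShStab.IsHilbPoly k X L F pF → ShStab.IsHilbPoly k X L E pE →
        StabCat.RedLE d pF pE) : ShStab.IsSemistable k X L E d := by
  refine ⟨hE, h0, hp, ?_⟩
  intro F ι hι hF hF0 hni pF pE hpF hpE
  haveI := hι
  have hdimE := dim_support_of_isPure X d hE h0 hp
  have haE := (alpha_pos k X hA E hE h0 hpE d hdimE).le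
  obtain ⟨F', ι', φ, pF', hι', hφ, hF', hpF', hα, hle, hpure⟩ :=
    exists_saturation k X hA d hE hF ι hdimE hpF
  haveI := hι'
  haveI : Mono φ := mono_of_mono_fac hφ
  have hF'0 : ¬ IsZero F' := fun z => hF0 (IsZero.of_mono φ z)
  by_cases hiso : IsIso ι'
  · have : pF' = pE := isHilbPoly_unique k X L _ (isHilbPoly_of_iso k X L (asIso ι') hpF') hpE
    rw [this] at hα hle
    exact redLE_of_polyLE hα hle haE (redLE_refl d pE)
  · exact redLE_of_polyLE hα hle haE (h F' ι' hι' hF' hF'0 hiso hpure pF' pE hpF' hpE)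

include hA hE h0 hp in
/-- **S15197**. -/
theorem isSemistable_tfae :
    [ShStab.IsSemistable k X L E d,
      ∀ (F : X.Modules) (ι : F ⟶ E), Mono ι → Coh.IsCoh F → ¬ IsZero F → ¬ IsIso ι →
        ShStab.IsPure X (cokernel ι) d →
        ∀ (pF pE : Polynomial ℚ), ShStab.IsHilbPoly k X L F pF → ShStab.IsHilbPoly k X L E pE →
          StabCat.RedLE d pF pE,
      ∀ (G : X.Modules) (π : E ⟶ G), Epi π → Coh.IsCoh G → ¬ IsIso π →
        ∀ (pE pG : Polynomial ℚ), ShStab.IsHilbPoly k X L E pE → ShStab.IsHilbPoly k X L G pG →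
          0 < StabCat.alpha d pG → StabCat.RedLE d pE pG,
      ∀ (G : X.Modules) (π : E ⟶ G), Epi π → Coh.IsCoh G → ¬ IsZero G → ¬ IsIso π →
        ShStab.IsPure X G d →
        ∀ (pE pG : Polynomial ℚ), ShStab.IsHilbPoly k X L E pE → ShStab.IsHilbPoly k X L G pG →
          StabCat.RedLE d pE pG].TFAE := by
  tfae_have 1 → 3 := fun h => ss_one_three k X hA d hE h.2.2.2
  tfae_have 3 → 4 := ss_three_four k X hA d
  tfae_have 4 → 2 := ss_four_two k X hA d hE
  tfae_have 2 → 1 := ss_two_one k X hA d hE h0 hp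
  tfae_finish

end SS

section St

variable {E : X.Modules} (hE : Coh.IsCoh E) (h0 : ¬ IsZero E) (hp : ShStab.IsPure X E d)

include hA hE in
theorem st_one_three (h : StabCat.IsSt Coh.IsCoh (ShStab.IsHilbPoly k X L) d E) :
    ∀ (G : X.Modules) (π : E ⟶ G), Epi π → Coh.IsCoh G → ¬ IsIso π →
      ∀ (pE pG : Polynomial ℚ), ShStab.IsHilbPoly k X L E pE → ShStab.IsHilbPoly k X L G pG →
        0 < StabCat.alpha d pG → StabCat.RedLT d pE pG := by
  intro G π hπ hG hni pE pG hpE hpG hpos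
  haveI := hπ
  obtain ⟨hK, hK0, hKni, pK, hpK, hsum⟩ := kernel_facts k X hA d hE hG π hni hpE hpG hpos
  exact (redLT_sub_iff_quot hsum).1 (h _ (kernel.ι π) inferInstance hK hK0 hKni pK pE hpK hpE)

include hA in
theorem st_three_four
    (h : ∀ (G : X.Modules) (π : E ⟶ G), Epi π → Coh.IsCoh G → ¬ IsIso π →
      ∀ (pE pG : Polynomial ℚ), ShStab.IsHilbPoly k X L E pE → ShStab.IsHilbPoly k X L G pG →
        0 < StabCat.alpha d pG → StabCat.RedLT d pE pG) :
    ∀ (G : X.Modules) (π : E ⟶ G), Epi π → Coh.IsCoh G → ¬ IsZero G → ¬ IsIso π →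
      ShStab.IsPure X G d →
      ∀ (pE pG : Polynomial ℚ), ShStab.IsHilbPoly k X L E pE → ShStab.IsHilbPoly k X L G pG →
        StabCat.RedLT d pE pG := by
  intro G π hπ hG hG0 hni hGp pE pG hpE hpG
  exact h G π hπ hG hni pE pG hpE hpG (alpha_pos_of_isPure k X hA d hGp (𝟙 G) hG hG0 hpG)

include hA hE in
theorem st_four_two
    (h : ∀ (G : X.Modules) (π : E ⟶ G), Epi π → Coh.IsCoh G → ¬ IsZero G → ¬ IsIso π →
      ShStab.IsPure X G d →
      ∀ (pE pG : Polynomial ℚ), ShStab.IsHilbPoly k X L E pE → ShStab.IsHilbPoly k X L G pG →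
        StabCat.RedLT d pE pG) :
    ∀ (F : X.Modules) (ι : F ⟶ E), Mono ι → Coh.IsCoh F → ¬ IsZero F → ¬ IsIso ι →
      ShStab.IsPure X (cokernel ι) d →
      ∀ (pF pE : Polynomial ℚ), ShStab.IsHilbPoly k X L F pF → ShStab.IsHilbPoly k X L E pE →
        StabCat.RedLT d pF pE := by
  intro F ι hι hF hF0 hni hpure pF pE hpF hpE
  haveI := hι
  obtain ⟨hG, hG0, hGni, pG, hpG, hsum⟩ := cokernel_facts k X hA hE hF ι hF0 hni hpF hpE
  exact (redLT_sub_iff_quot hsum).2
    (h _ (cokernel.π ι) inferInstance hG hG0 hGni hpure pE pG hpE hpG)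

include hA hE h0 hp in
theorem st_two_one
    (h : ∀ (F : X.Modules) (ι : F ⟶ E), Mono ι → Coh.IsCoh F → ¬ IsZero F → ¬ IsIso ι →
      ShStab.IsPure X (cokernel ι) d →
      ∀ (pF pE : Polynomial ℚ), ShStab.IsHilbPoly k X L F pF → ShStab.IsHilbPoly k X L E pE →
        StabCat.RedLT d pF pE) : ShStab.IsStable k X L E d := by
  refine ⟨hE, h0, hp, ?_⟩
  intro F ι hι hF hF0 hni pF pE hpF hpE
  haveI := hι
  have hdimE := dim_support_of_isPure X d hE h0 hp
  have haEpos := alpha_pos k X hA E hE h0 hpE d hdimE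
  have haE := haEpos.le
  obtain ⟨F', ι', φ, pF', hι', hφ, hF', hpF', hα, hle, hpure⟩ :=
    exists_saturation k X hA d hE hF ι hdimE hpF
  haveI := hι'
  haveI : Mono φ := mono_of_mono_fac hφ
  have hF'0 : ¬ IsZero F' := fun z => hF0 (IsZero.of_mono φ z)
  by_cases hiso : IsIso ι'
  · have : pF' = pE := isHilbPoly_unique k X L _ (isHilbPoly_of_iso k X L (asIso ι') hpF') hpE
    rw [this] at hα
    obtain ⟨hG, hG0, -, pG, hpG, hsum⟩ := cokernel_facts k X hA hE hF ι hF0 hni hpF hpE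
    obtain ⟨N, hN⟩ := eventually_pos_of_leadingCoeff_pos pG
      (leadingCoeff_pos k X L hA _ hG hG0 hpG)
    refine ⟨N, fun m hm => ?_⟩
    have a1 := hN m hm
    have e : Polynomial.eval (m : ℚ) pE = Polynomial.eval (m : ℚ) pF +
        Polynomial.eval (m : ℚ) pG := by
      conv_lhs => rw [hsum]
      rw [Polynomial.eval_add]
    simp only [Polynomial.eval_smul, smul_eq_mul]
    rw [← hα, e]
    nlinarith [mul_pos haEpos a1]
  · exact redLT_of_polyLE hα hle haE (h F' ι' hι' hF' hF'0 hiso hpure pF' pE hpF' hpE)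

include hA hE h0 hp in
/-- **S15198**. -/
theorem isStable_tfae :
    [ShStab.IsStable k X L E d,
      ∀ (F : X.Modules) (ι : F ⟶ E), Mono ι → Coh.IsCoh F → ¬ IsZero F → ¬ IsIso ι →
        ShStab.IsPure X (cokernel ι) d →
        ∀ (pF pE : Polynomial ℚ), ShStab.IsHilbPoly k X L F pF → ShStab.IsHilbPoly k X L E pE →
          StabCat.RedLT d pF pE,
      ∀ (G : X.Modules) (π : E ⟶ G), Epi π → Coh.IsCoh G → ¬ IsIso π →
        ∀ (pE pG : Polynomial ℚ), ShStab.IsHilbPoly k X L E pE → ShStab.IsHilbPoly k X L G pG →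
          0 < StabCat.alpha d pG → StabCat.RedLT d pE pG,
      ∀ (G : X.Modules) (π : E ⟶ G), Epi π → Coh.IsCoh G → ¬ IsZero G → ¬ IsIso π →
        ShStab.IsPure X G d →
        ∀ (pE pG : Polynomial ℚ), ShStab.IsHilbPoly k X L E pE → ShStab.IsHilbPoly k X L G pG →
          StabCat.RedLT d pE pG].TFAE := by
  tfae_have 1 → 3 := fun h => st_one_three k X hA d hE h.2.2.2
  tfae_have 3 → 4 := st_three_four k X hA d
  tfae_have 4 → 2 := st_four_two k X hA d hE
  tfae_have 2 → 1 := st_two_one k X hA d hE h0 hp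
  tfae_finish

end St

end Groth.Agent.H5.HP
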